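import Cfsg.Agent.Lib.Fusion.Basic
import Cfsg.Agent.Lib.Fusion.Cores
import Mathlib

/-!
Normal subgroups with prescribed Sylow subgroup: the group theory behind meets of normal subsystems.
-/

set_option autoImplicit false

namespace Cfsg.Agent.Local.FS.Meet

open Cfsg Cfsg.Agent.Fusion

variable {G : Type*} [Group G] [Finite G] {p : ℕ} [Fact p.Prime]

/-- A transfer: `P = U K` with commutators of `K` in `U` and `U` closed under fusion in `P`. -/
theorem exists_complement_top {P U K : Subgroup G} (hP : SylIn p P ⊤) (hUP : U ≤ P) (hKP : K ≤ P)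
    (hPUK : P ≤ U ⊔ K)
    (hUn : ∀ x ∈ P, ∀ u ∈ U, x * u * x⁻¹ ∈ U) (hc : ∀ g : G, ∀ k ∈ K, g * k * g⁻¹ * k⁻¹ ∈ U)
    (hconj : ∀ g : G, ∀ u ∈ U, g * u * g⁻¹ ∈ P → g * u * g⁻¹ ∈ U) :
    ∃ Y : Subgroup G, Y.Normal ∧ SylIn p U Y ∧ ∀ x : G, (orderOf x).Coprime p → x ∈ Y := by
  classical
  haveI hn : (U.subgroupOf P).Normal :=
    ⟨fun u hu x => hUn x x.2 u hu⟩
  have htop : U.subgroupOf P ⊔ K.subgroupOf P = ⊤ := by
    rw [← Subgroup.subgroupOf_sup hUP hKP]
    exact Subgroup.subgroupOf_eq_top.2 hPUK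
  let π : P →* P ⧸ U.subgroupOf P := QuotientGroup.mk' _
  have hπ : ∀ x : P, π x = 1 ↔ (x : G) ∈ U := fun x =>
    (QuotientGroup.eq_one_iff x).trans Subgroup.mem_subgroupOf
  have hsurj : ∀ a, ∃ k ∈ K.subgroupOf P, π k = a := fun a => by
    obtain ⟨x, rfl⟩ := QuotientGroup.mk'_surjective _ a
    obtain ⟨u, hu, k, hk, rfl⟩ : ∃ u ∈ U.subgroupOf P, ∃ k ∈ K.subgroupOf P, u * k = x :=
      Subgroup.mem_sup_of_normal_left.1 (htop.ge (Subgroup.mem_top _))
    refine ⟨k, hk, ?_⟩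
    show π k = π (u * k)
    rw [map_mul, (hπ u).2 hu, one_mul]
  have hcomm : ∀ a b : P ⧸ U.subgroupOf P, a * b = b * a := by
    intro a b
    obtain ⟨k, hk, rfl⟩ := hsurj a
    obtain ⟨l, hl, rfl⟩ := hsurj b
    rw [← mul_inv_eq_one, mul_inv_rev, ← map_mul, ← map_inv, ← map_inv, ← map_mul, ← map_mul, hπ]
    have h1 := hc (k : G) _ hl
    simpa [mul_assoc] using h1
  letI : CommGroup (P ⧸ U.subgroupOf P) :=
    { (inferInstance : Group (P ⧸ U.subgroupOf P)) with mul_comm := hcomm }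
  let V : G →* P ⧸ U.subgroupOf P := MonoidHom.transfer π
  have hVU : ∀ u ∈ U, V u = 1 := by
    intro u hu
    letI : Fintype (Quotient (MulAction.orbitRel (Subgroup.zpowers u) (G ⧸ P))) := Fintype.ofFinite _
    rw [MonoidHom.transfer_eq_prod_quotient_orbitRel_zpowers_quot]
    refine Finset.prod_eq_one fun q _ => (hπ _).2 ?_
    have hm := QuotientGroup.out_conj_pow_minimalPeriod_mem P u q.out
    have h1 := hconj q.out.out⁻¹ _ (U.pow_mem hu (Function.minimalPeriod (u • ·) q.out))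
      (by rw [inv_inv]; exact hm)
    rwa [inv_inv] at h1
  have hVK : ∀ k : G, ∀ hk : k ∈ K, V k = π ⟨k, hKP hk⟩ ^ P.index := by
    intro k hk
    letI : Fintype (Quotient (MulAction.orbitRel (Subgroup.zpowers k) (G ⧸ P))) := Fintype.ofFinite _
    rw [MonoidHom.transfer_eq_prod_quotient_orbitRel_zpowers_quot,
      Subgroup.index_eq_sum_minimalPeriod P k, ← Finset.prod_pow_eq_pow_sum]
    refine Finset.prod_congr rfl fun q _ => ?_
    rw [← map_pow, ← inv_inv (π (⟨k, hKP hk⟩ ^ _)), eq_inv_iff_mul_eq_one, ← map_inv, ← map_mul, hπ]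
    have h1 := hc q.out.out⁻¹ _ (K.pow_mem hk (Function.minimalPeriod (k • ·) q.out))
    rw [inv_inv] at h1
    exact h1
  have hidx : P.index.Coprime p :=
    ((Nat.Prime.coprime_iff_not_dvd Fact.out).2 (Subgroup.relIndex_top_right P ▸ hP.not_dvd)).symm
  have hker : P ⊓ V.ker = U := by
    refine le_antisymm ?_ (le_inf hUP fun u hu => MonoidHom.mem_ker.2 (hVU u hu))
    rintro x ⟨hxP, hx⟩
    obtain ⟨u, hu, k, hk, huk⟩ : ∃ u ∈ U.subgroupOf P, ∃ k ∈ K.subgroupOf P,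
        u * k = (⟨x, hxP⟩ : P) :=
      Subgroup.mem_sup_of_normal_left.1 (htop.ge (Subgroup.mem_top _))
    have huk' : (u : G) * k = x := congrArg Subtype.val huk
    have h1 : V x = 1 := hx
    rw [← huk', map_mul, hVU (u : G) hu, one_mul, hVK (k : G) hk] at h1
    have h2 : π ⟨k, hKP hk⟩ = 1 := by
      obtain ⟨e, he⟩ := hP.isPGroup.to_quotient (U.subgroupOf P) (π ⟨k, hKP hk⟩)
      refine orderOf_eq_one_iff.1 (Nat.eq_one_of_dvd_coprimes (hidx.pow_right e)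
        (orderOf_dvd_of_pow_eq_one h1) (orderOf_dvd_of_pow_eq_one he))
    rw [← huk']
    exact U.mul_mem hu ((hπ _).1 h2)
  refine ⟨V.ker, inferInstance, ?_, fun x hx => ?_⟩
  · exact Eq.mp (congrArg (fun A => SylIn p A V.ker) hker)
      (hP.inf_normal le_top (by rw [Subgroup.normalizer_eq_top]))
  · obtain ⟨e, he⟩ := hP.isPGroup.to_quotient (U.subgroupOf P) (V x)
    refine MonoidHom.mem_ker.2 (orderOf_eq_one_iff.1 (Nat.eq_one_of_dvd_coprimes (hx.pow_right e)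
      (orderOf_map_dvd V x) (orderOf_dvd_of_pow_eq_one he)))

/-- Inside a normal subgroup `A`: a normal subgroup of `G` with Sylow subgroup `U`. -/
theorem exists_part {A Sp U K : Subgroup G} [A.Normal] (hS : SylIn p Sp ⊤) (hUP : U ≤ Sp ⊓ A)
    (hKP : K ≤ Sp ⊓ A) (hPUK : Sp ⊓ A ≤ U ⊔ K) (hUn : ∀ x ∈ Sp ⊓ A, ∀ u ∈ U, x * u * x⁻¹ ∈ U)
    (hc : ∀ g ∈ A, ∀ k ∈ K, g * k * g⁻¹ * k⁻¹ ∈ U)
    (hconj : ∀ g : G, ∀ u ∈ U, g * u * g⁻¹ ∈ Sp → g * u * g⁻¹ ∈ U) :
    ∃ W : Subgroup G, W.Normal ∧ W ≤ A ∧ SylIn p U W ∧ Sp ⊓ W = U ∧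
      ∀ x ∈ A, (orderOf x).Coprime p → x ∈ W := by
  set P := Sp ⊓ A with hPd
  have hP : SylIn p P A := hS.inf_normal le_top (by rw [Subgroup.normalizer_eq_top])
  have hPt : SylIn p (P.subgroupOf A) ⊤ := by
    obtain ⟨R, hR⟩ := hP.exists_sylow_subgroupOf
    exact hR ▸ sylIn_top R
  have hUA : U ≤ A := hUP.trans inf_le_right
  have hKA : K ≤ A := hKP.trans inf_le_right
  obtain ⟨Y, hYn, hY, hYc⟩ := exists_complement_top (P := P.subgroupOf A) (U := U.subgroupOf A)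
    (K := K.subgroupOf A) hPt (fun _ hx => hUP hx) (fun _ hx => hKP hx)
    (by rw [← Subgroup.subgroupOf_sup hUA hKA]; exact fun _ hx => hPUK hx)
    (fun x hx u hu => hUn _ hx _ hu) (fun g k hk => hc g g.2 _ hk)
    (fun g u hu hg => hconj g _ hu (hg : _ ∈ P).1)
  have hY' : SylIn p U (Y.map A.subtype) := by
    have hmap : (U.subgroupOf A).map A.subtype = U := Subgroup.map_subgroupOf_eq_of_le hUA
    refine ⟨hmap ▸ Subgroup.map_mono hY.le, hP.isPGroup.to_le hUP, ?_⟩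
    conv => arg 1; arg 2; arg 1; rw [← hmap]
    rw [Subgroup.relIndex_map_map_of_injective _ _ A.subtype_injective]
    exact hY.not_dvd
  set W := Subgroup.normalClosure ((U : Set G) ∪ {x | x ∈ A ∧ (orderOf x).Coprime p}) with hW
  have hWY : W ≤ Y.map A.subtype := by
    refine (Subgroup.closure_le _).2 ?_
    intro z hz
    obtain ⟨a, ha, hac⟩ := Group.mem_conjugatesOfSet_iff.1 hz
    obtain ⟨g, rfl⟩ := isConj_iff.1 hac
    rcases ha with ha | ⟨haA, hao⟩
    · have hgA : g * a * g⁻¹ ∈ A := Subgroup.Normal.conj_mem inferInstance a (hUA ha) g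
      obtain ⟨k, hk⟩ : ∃ k, a ^ p ^ k = 1 := by
        obtain ⟨k, hk⟩ := (hP.isPGroup.to_le hUP) ⟨a, ha⟩
        exact ⟨k, congrArg Subtype.val hk⟩
      have hp : IsPGroup p ↥(Subgroup.zpowers (g * a * g⁻¹)) := by
        obtain ⟨j, -, hj⟩ := (Nat.dvd_prime_pow Fact.out).1 (orderOf_dvd_of_pow_eq_one
          (show (g * a * g⁻¹) ^ p ^ k = 1 by rw [conj_pow, hk, mul_one, mul_inv_cancel]))
        exact IsPGroup.of_card ((Nat.card_zpowers _).trans hj)
      obtain ⟨x, hx, hle⟩ := hP.conj_le hp (Subgroup.zpowers_le.2 hgA)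
      have h1 := hle (conj_mem_cj (g := x) (Subgroup.mem_zpowers (g * a * g⁻¹)))
      have h2 : x * (g * a * g⁻¹) * x⁻¹ = x * g * a * (x * g)⁻¹ := by group
      rw [h2] at h1
      have h3 := hconj (x * g) a ha h1.1
      obtain ⟨y, hy, hye⟩ := hY'.le h3
      refine ⟨(⟨x, hx⟩ : A)⁻¹ * y * ⟨x, hx⟩, ?_, ?_⟩
      · simpa using hYn.conj_mem y hy (⟨x, hx⟩ : A)⁻¹
      · show x⁻¹ * (A.subtype y) * x = _
        rw [hye]; group
    · exact ⟨⟨g * a * g⁻¹, Subgroup.Normal.conj_mem inferInstance a haA g⟩, hYc _ (by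
        have e : g * a * g⁻¹ = MulAut.conj g a := rfl
        rw [Subgroup.orderOf_mk, e, MulEquiv.orderOf_eq]; exact hao), rfl⟩
  have hUW : U ≤ W := fun u hu => Subgroup.subset_normalClosure (Or.inl hu)
  have hWA : W ≤ A := hWY.trans (Subgroup.map_subtype_le _)
  have hsyl : SylIn p U W := hY'.mono hUW hWY
  refine ⟨W, Subgroup.normalClosure_normal, hWA, hsyl, ?_,
    fun x hx hxo => Subgroup.subset_normalClosure (Or.inr ⟨hx, hxo⟩)⟩
  exact hsyl.eq_of_le hS.isPGroup.to_inf_left (le_inf (hUP.trans inf_le_left) hUW) inf_le_right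

omit [Fact p.Prime] in
/-- An element of order prime to `p` lies in any subgroup containing a `p`-power of it. -/
theorem mem_of_pPow_mem {H : Subgroup G} {x : G} {k : ℕ} (hx : (orderOf x).Coprime p)
    (h : x ^ p ^ k ∈ H) : x ∈ H := by
  obtain ⟨m, hm⟩ := exists_pow_eq_self_of_coprime (x := x) (n := p ^ k) (hx.symm.pow_left k)
  exact hm ▸ H.pow_mem h m

/-- If `f = e k` with `e` in a subgroup normalized by `f`, a `p`-element `k`, and `f` of order prime to `p`. -/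
theorem mem_of_mul_pElement {N : Subgroup G} {f e : G} {j : ℕ} (hf : (orderOf f).Coprime p)
    (hn : f ∈ Subgroup.normalizer (N : Set G)) (he : e ∈ N) (hk : (e⁻¹ * f) ^ p ^ j = 1) : f ∈ N := by
  refine mem_of_pPow_mem (k := j) hf ?_
  obtain ⟨k, hkd⟩ : ∃ k, k = e⁻¹ * f := ⟨_, rfl⟩
  rw [← hkd] at hk
  have key : ∀ n : ℕ, f ^ n * (k ^ n)⁻¹ ∈ N := by
    intro n
    induction n with
    | zero => simp
    | succ n ih =>
      have h1 : f ^ (n + 1) * (k ^ (n + 1))⁻¹ = f * (f ^ n * (k ^ n)⁻¹) * f⁻¹ * e := by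
        rw [pow_succ', pow_succ', mul_inv_rev, hkd]
        group
      rw [h1]
      exact N.mul_mem ((Subgroup.mem_normalizer_iff.1 hn _).1 ih) he
  have := key (p ^ j)
  rwa [hk, inv_one, mul_one] at this

end Cfsg.Agent.Local.FS.Meet
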