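import Cfsg.Agent.Lib.Local.FS.CentralLiftBasic
import Cfsg.Agent.Lib.Local.FS.StabAutS
import Cfsg.Agent.Lib.Local.FS.NormSat
import Cfsg.Agent.Lib.Local.FS.Meet.Group

/-!
Meets of normal subsystems: subgroups `Q C_S(Q)`, and the automorphisms of such groups that lie in a normal
subsystem and move `C_S(Q)` inside it.
-/

set_option autoImplicit false

namespace Cfsg.Agent.Local.FS.Meet

open Cfsg Cfsg.FusionSystem Cfsg.Agent.Fusion Cfsg.Agent.Local.FS

variable {Ω : Type*} [Group Ω] {S T : Subgroup Ω} {F : FusionSystem S} {E : FusionSystem T}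
  {P Q R X Y : Subgroup Ω} {f g h : Ω → Ω} {p : ℕ}

/-- `Q C_T(Q)`. -/
abbrev hat (T Q : Subgroup Ω) : Subgroup Ω := Q ⊔ centralizerIn T Q

theorem hat_sub {T S : Subgroup Ω} (hTS : T ≤ S) : hat T Q ≤ hat S Q :=
  sup_le_sup_left (inf_le_inf_right _ hTS) Q

theorem hat_le_of (hQ : Q ≤ T) : hat T Q ≤ T := sup_le hQ inf_le_left

theorem centralizerIn_hat_le : centralizerIn T Q ≤ hat T Q := le_sup_right

theorem mem_centralizerIn_of_sub {T S : Subgroup Ω} (hTS : T ≤ S) {x : Ω} (hx : x ∈ centralizerIn T Q) :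
    x ∈ centralizerIn S Q := ⟨hTS hx.1, hx.2⟩

/-- The image of `Q C_T(Q)` under a map sending `C_T(Q)` into `C_T(Q')`. -/
theorem im_hat_le (hg : Map F (hat T Q) g) (hi : im Q g = R)
    (hm : ∀ x ∈ centralizerIn T Q, g x ∈ T) : im (hat T Q) g ≤ hat T R := by
  refine hg.im_sup_le.trans (sup_le (hi.le.trans le_sup_left) (im_le_iff.2 fun x hx => ?_))
  refine Subgroup.mem_sup_right ⟨hm x hx, ?_⟩
  have := hg.mem_centralizer le_sup_left (Subgroup.mem_sup_right hx) (mem_centralizerIn.1 hx).2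
  rw [hi] at this
  exact this.2

variable [Finite S] [Fact p.Prime]

/-- Between fully centralized conjugates a map extends to an isomorphism of the hats. -/
theorem exists_hat_iso (hS : IsPGroup p S) (hF : F.IsSaturated p) (hX : F.IsFullyCentralized X)
    (hQ : F.IsFullyCentralized Q) (hf : Map F X f) (hi : im X f = Q) :
    ∃ g, Map F (hat S X) g ∧ (∀ x ∈ X, g x = f x) ∧ im (hat S X) g = hat S Q ∧
      ∀ x ∈ centralizerIn S X, g x ∈ centralizerIn S Q := by
  obtain ⟨g, hg, hgf⟩ := (receptive_iff.1 (receptive_of_fc hS hF hQ)).2 X f hf hi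
  have hle : hat S X ≤ Nf S X f := sup_le (le_Nf hf) centralizerIn_le_Nf
  have hg' := hg.restrict hle
  have hgX : im X g = Q := (im_congr hgf).trans hi
  have hC : ∀ x ∈ centralizerIn S X, g x ∈ centralizerIn S Q := fun x hx => by
    have := hg'.mem_centralizer le_sup_left (Subgroup.mem_sup_right hx) (mem_centralizerIn.1 hx).2
    rwa [hgX] at this
  refine ⟨g, hg', hgf, le_antisymm (im_hat_le hg' hgX fun x hx => (hC x hx).1) (sup_le ?_ ?_), hC⟩
  · exact hgX.ge.trans (im_mono le_sup_left)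
  · intro y hy
    obtain ⟨x, hx, rfl⟩ := (hg'.restrict le_sup_right).surj_of_card_le inf_le_left hC
      (hX.2 Q (isConj_iff.2 ⟨f, hf, hi⟩)) y hy
    exact mem_im_of_mem (Subgroup.mem_sup_right hx)

omit [Fact p.Prime] in
/-- `f` restricted to `Q C_T(Q)` is a map of `E` and moves `C_S(Q)` inside `T`. -/
def Part (E : FusionSystem T) (S Q : Subgroup Ω) (f : Ω → Ω) : Prop :=
  Map E (hat T Q) f ∧ ∀ x ∈ centralizerIn S Q, x⁻¹ * f x ∈ T

omit [Finite S] [Fact p.Prime] in
theorem Part.congr (h : Part E S Q f) (hT : T ≤ S) (he : ∀ x ∈ hat S Q, f x = g x) : Part E S Q g :=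
  ⟨h.1.congr fun x hx => he x (hat_sub hT hx), fun x hx => he x (Subgroup.mem_sup_right hx) ▸ h.2 x hx⟩

omit [Finite S] [Fact p.Prime] in
theorem part_id (hQ : Q ≤ T) : Part E S Q id :=
  ⟨map_id (hat_le_of hQ), fun x _ => by rw [id, inv_mul_cancel]; exact T.one_mem⟩

omit [Finite S] [Fact p.Prime] in
theorem Part.comp (hf : Part E S Q f) (hg : Part E S Q g)
    (hC : ∀ x ∈ centralizerIn S Q, f x ∈ centralizerIn S Q) (hm : ∀ x ∈ hat T Q, f x ∈ hat T Q) :
    Part E S Q (g ∘ f) := by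
  refine ⟨hf.1.comp hg.1 hm, fun x hx => ?_⟩
  have := T.mul_mem (hf.2 x hx) (hg.2 _ (hC x hx))
  show x⁻¹ * g (f x) ∈ T
  simpa [mul_assoc] using this

omit [Finite S] [Fact p.Prime] in
theorem hat_stable (hT : F.StronglyClosed T) (hf : Map F (hat S Q) f) (hi : im Q f = Q) :
    ∀ x ∈ hat T Q, f x ∈ hat T Q := by
  intro x hx
  exact im_hat_le (hf.restrict (hat_sub hT.1)) hi
    (fun y hy => stronglyClosed_map hT hf (hat_sub hT.1 (Subgroup.mem_sup_right hy)) hy.1)
    (mem_im_of_mem hx)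

/-- Transport of `Part` along an isomorphism of hats. -/
theorem Part.transport (hS : IsPGroup p S) (hF : F.IsSaturated p) (hE : E.IsInvariantIn F)
    (hXT : X ≤ T) (hf : Part E S X f) (hfm : ∀ x ∈ hat T X, f x ∈ hat T X)
    (hfC : ∀ x ∈ centralizerIn S X, f x ∈ centralizerIn S X) (hg : Map F (hat S X) g) (hi : im X g = Q)
    (hC : ∀ y ∈ centralizerIn S Q, ∃ x ∈ centralizerIn S X, g x = y)
    (hh : ∀ x ∈ hat S X, h (g x) = g (f x)) : Part E S Q h := by
  have hT := hE.2.1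
  have hgT := hg.restrict (hat_sub (T := T) hT.1)
  have him : im (hat T X) g = hat T Q := by
    refine le_antisymm (im_hat_le hgT hi
      fun x hx => stronglyClosed_map hT hgT (Subgroup.mem_sup_right hx) hx.1)
      (sup_le (hi.ge.trans (im_mono le_sup_left)) ?_)
    intro y hy
    obtain ⟨x, hx, rfl⟩ := hC y (mem_centralizerIn_of_sub hT.1 hy)
    obtain ⟨k, hk, hkg, -, -⟩ := (hg.restrict le_sup_right).exists_inv
    have hxT : x ∈ T := by
      rw [← hkg x hx]
      exact stronglyClosed_map hT hk (mem_im_of_mem hx) hy.1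
    exact mem_im_of_mem (Subgroup.mem_sup_right ⟨hxT, hx.2⟩)
  obtain ⟨k, hk, hke⟩ := (isInvariantIn_iff hS hF hE.1 hT).1 hE (hat T X) (hat T X) f g le_rfl
    (hat_le_of hXT) hf.1 hfm hgT
  rw [him] at hk
  refine ⟨hk.congr fun y hy => ?_, fun y hy => ?_⟩
  · obtain ⟨x, hx, rfl⟩ := hgT.mem_im.1 (him.ge hy)
    rw [hke x hx, hh x (hat_sub hT.1 hx)]
  · obtain ⟨x, hx, rfl⟩ := hC y hy
    have hxH : x ∈ hat S X := Subgroup.mem_sup_right hx
    have hfx : f x ∈ hat S X := Subgroup.mem_sup_right (hfC x hx)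
    rw [hh x hxH, ← hg.map_inv hxH, ← hg.map_mul (Subgroup.inv_mem _ hxH) hfx]
    exact stronglyClosed_map hT hg (Subgroup.mul_mem _ (Subgroup.inv_mem _ hxH) hfx) (hf.2 x hx)

/-- `Q C_T(Q)` is centric in `E` for `Q` fully centralized in `F`. -/
theorem hat_centric (hS : IsPGroup p S) (hF : F.IsSaturated p) (hE : E.IsInvariantIn F) (hQT : Q ≤ T)
    (hQ : F.IsFullyCentralized Q) : E.IsCentric (hat T Q) := by
  have hT := hE.2.1
  refine ⟨hat_le_of hQT, fun R hR => ?_⟩
  obtain ⟨f, hf, rfl⟩ := isConj_iff.1 hR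
  haveI := finite_of_le hT.1
  have hfQ := hf.restrict (le_sup_left : Q ≤ hat T Q)
  obtain ⟨k, hk, hkf, hfk, hki⟩ := hfQ.exists_inv
  obtain ⟨g, hg, hgk⟩ := (receptive_iff.1 (receptive_of_fc hS hF hQ)).2 _ k (hk.of_sub hE.1) hki
  have hle : centralizerIn T (im Q f) ≤ Nf S (im Q f) k :=
    (inf_le_inf_right _ hT.1).trans centralizerIn_le_Nf
  have hcard : Nat.card ↥(centralizerIn T (im Q f)) ≤ Nat.card ↥(centralizerIn T Q) := by
    haveI : Finite ↥(centralizerIn T Q) := finite_of_le (inf_le_left.trans hT.1)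
    refine (hg.restrict hle).card_le fun x hx => ⟨stronglyClosed_map hT hg (hle hx) hx.1, ?_⟩
    have := hg.mem_centralizer (le_Nf (hk.of_sub hE.1)) (hle hx) (mem_centralizerIn.1 hx).2
    rw [im_congr hgk, hki] at this
    exact this.2
  intro y hy
  have hy' : y ∈ centralizerIn T (im Q f) := mem_centralizerIn.2 ⟨hy.1, fun z hz =>
    (mem_centralizerIn.1 hy).2 z (im_mono le_sup_left hz)⟩
  obtain ⟨x, hx, rfl⟩ := (hf.restrict le_sup_right).surj_of_card_le (T := centralizerIn T (im Q f))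
    inf_le_left (fun x hx => hf.mem_centralizer le_sup_left (Subgroup.mem_sup_right hx)
      (mem_centralizerIn.1 hx).2) hcard y hy'
  exact mem_im_of_mem (Subgroup.mem_sup_right hx)

/-- An automorphism of order prime to `p` lying in `E` on a centric subgroup lies in `E`. -/
theorem mem_sub_of_centric (hS : IsPGroup p S) (hE : E.IsWeaklyNormalIn F p) (hQ : E.IsCentric Q)
    (hQY : Q ≤ Y) (hY : Y ≤ normalizerIn T Q) {β : MulAut Y} (hβ : β ∈ F.autGroup Y)
    (hβo : (orderOf β).Coprime p) (hβQ : ∀ x ∈ Q, av β x ∈ Q) (hβE : Map E Q (av β)) :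
    β ∈ E.autGroup Y := by
  obtain ⟨hEs, hF, hEi⟩ := id hE
  have hT := hEi.2.1
  haveI := finite_of_le hT.1
  have hYT : Y ≤ T := hY.trans inf_le_left
  have hYS := hYT.trans hT.1
  haveI := finite_of_le hYS
  haveI := mulAut_finite_of_le hYS
  haveI := finite_of_le (hQY.trans hYS)
  have hm := map_of_mem_autGroup hYS hβ
  have hiQ : im Q (av β) = Q :=
    Subgroup.eq_of_le_of_card_ge (im_le_iff.2 hβQ) (hm.restrict hQY).card_im.ge
  obtain ⟨e, he, hee⟩ := (receptive_iff.1 (receptive_of_fc (hS.to_le hT.1) hEs (fc_of_centric hQ))).2 Q _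
    hβE hiQ
  have hle : Y ≤ Nf T Q (av β) := fun y hy =>
    ⟨hYT hy, (hY hy).2, av β y, stronglyClosed_map hT hm hy (hYT hy), fun x hx => hm.map_conj hy (hQY hx)⟩
  have heY := he.restrict hle
  have hd : ∀ y ∈ Y, (av β y)⁻¹ * e y ∈ Q := fun y hy => by
    refine centric_inv_mem hQ (T.mul_mem (T.inv_mem (hYT (av_mem β hy))) (heY.mem hy)) fun z hz => ?_
    obtain ⟨x, hx, rfl⟩ := (hm.restrict hQY).mem_im.1 (hiQ.ge hz)
    have hx' : y * x * y⁻¹ ∈ Q := conj_mem_of_normalizer (hY hy).2 hx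
    have h1 : e y * av β x * (e y)⁻¹ = av β y * av β x * (av β y)⁻¹ := by
      rw [← hm.map_conj hy (hQY hx), ← hee _ hx', heY.map_conj hy (hQY hx), hee x hx]
    calc av β x * ((av β y)⁻¹ * e y) = (av β y)⁻¹ * (av β y * av β x * (av β y)⁻¹) * e y := by group
      _ = (av β y)⁻¹ * (e y * av β x * (e y)⁻¹) * e y := by rw [h1]
      _ = _ := by group
  obtain ⟨ε, hε, hεe⟩ := exists_aut heY (Subgroup.eq_of_le_of_card_ge (im_le_iff.2 fun y hy => by
    simpa using Y.mul_mem (av_mem β hy) (hQY (hd y hy))) heY.card_im.ge)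
  have hkQ : ∀ x ∈ Q, av (ε⁻¹ * β) x = x := fun x hx => by
    rw [av_mul _ _ (hQY hx), ← hee x hx, ← hεe x (hQY hx), av_inv_av ε (hQY hx)]
  have hεi : ∀ x ∈ Q, av ε⁻¹ x ∈ Q := fun x hx => by
    obtain ⟨z, hz, rfl⟩ := (hm.restrict hQY).mem_im.1 (hiQ.ge hx)
    rw [← hee z hz, ← hεe z (hQY hz), av_inv_av ε (hQY hz)]
    exact hz
  have hεm := map_of_mem_autGroup hYT ((E.autGroup Y).inv_mem hε)
  obtain ⟨j, hj⟩ := exists_pow_eq_one_of_stabilizes (hS.to_le hYS) (α := ε⁻¹ * β)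
    (fun i => if i = 0 then ⊥ else if i = 1 then Q else Y) 2 rfl (by simp)
    (monotone_nat_of_le_succ fun i => by rcases i with _ | _ | i <;> simp [hQY])
    (fun i hi x hx hxC => by
      rcases i with _ | _ | i
      · simp only [zero_add, one_ne_zero, if_false, if_true] at hxC ⊢
        rw [Subgroup.mem_bot, hkQ x hxC, inv_mul_cancel]
      · have h2 := hεi _ (hd x hx)
        rw [hεm.map_mul (Y.inv_mem (av_mem β hx)) (hεe x hx ▸ av_mem ε hx),
          hεm.map_inv (av_mem β hx), ← hεe x hx, av_inv_av ε hx, ← av_mul _ _ hx] at h2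
        simpa using Q.inv_mem h2
      · omega)
  refine mem_of_mul_pElement hβo (Subgroup.mem_normalizer_iff.2 fun a => ?_) hε hj
  exact ⟨fun ha => conj_mem_sub hEi hYT hβ ha, fun ha => by
    simpa [mul_assoc] using conj_mem_sub hEi hYT ((F.autGroup Y).inv_mem hβ) ha⟩

end Cfsg.Agent.Local.FS.Meet
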