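import Cfsg.Agent.Lib.Local.FS.Meet.Levels
import Cfsg.Agent.Lib.Local.FS.PrimeResidualNormal

/-!
The meet of two normal subsystems is the largest subsystem on the intersection of the bases that is normal in
both and in the whole system.
-/

set_option autoImplicit false

namespace Cfsg.Agent.Local.FS.Meet

open Cfsg Cfsg.FusionSystem Cfsg.Agent.Fusion Cfsg.Agent.Local.FS

universe u

variable {Ω : Type u} [Group Ω] {S T₁ T₂ : Subgroup Ω} {F : FusionSystem S} {E₁ : FusionSystem T₁}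
  {E₂ : FusionSystem T₂} {P Q R X : Subgroup Ω} {f g : Ω → Ω} {p : ℕ}
  [Finite S] [Fact p.Prime] (c : Ctx F E₁ E₂ p)
include c

theorem Ctx.fn_T : F.IsFullyNormalized c.T :=
  ⟨c.tS, fun Q hQ => by rw [eq_of_isConj_stronglyClosed c.tClosed hQ]⟩

theorem Ctx.sys_saturated : c.sys.IsSaturated p := by
  haveI := c.finT
  refine saturated_of_family c.pT {P | c.Cent P} (fun P hP Q hQ => ?_) (fun P hP => ?_)
    (fun D hD => ?_) fun P hPc hP => ?_
  · obtain ⟨f, hf, rfl⟩ := isConj_iff.1 hQ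
    exact c.cent_im hP (c.map_sys.1 hf).1
  · obtain ⟨Q, e, hQ, he, hei, -⟩ := c.exists_toGood hP
    exact ⟨Q, isConj_iff.2 ⟨e, c.map_sys.2 (he.restrict (le_normalizerIn hP.1)), hei⟩,
      fa_iff.2 ⟨hQ.1.1, (c.level_all Q hQ).1⟩, (c.level_all Q hQ).2⟩
  · intro P φ hφ
    have key := hφ.2.2.2 (fun P f => Map D P f)
      { congr := fun h he => h.congr he
        restrict := fun _ h hR => h.restrict hR
        comp := fun _ _ h h' hm => h.comp h' hm
        inv := fun {P f g} _ h hg => by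
          obtain ⟨k, hk, hkf, -, -⟩ := h.exists_inv
          refine hk.congr fun y hy => ?_
          obtain ⟨x, hx, rfl⟩ := h.mem_im.1 hy
          rw [hkf x hx, hg x hx] }
      (fun Q t hQ ht => map_conjBy hQ ht)
      fun Q hQ a ha => by
        obtain ⟨ψ, hψ, he⟩ := c.map_sys.2 (c.lmap_Y hQ ha)
        exact ⟨ψ, hD Q hQ hψ, he⟩
    exact key.mem_hom fun x => (fn_coe φ x).symm
  · refine absurd ⟨hPc.1, fun g hg => ?_⟩ hP
    obtain ⟨α, hα, e, he, hge⟩ := c.dec_all P g hPc.1 hg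
    intro x hx
    have hαi := map_of_mem_autGroup c.tS (inv_mem hα)
    have hgT : ∀ y ∈ P, g y ∈ c.T := fun y hy => stronglyClosed_map c.tClosed hg hy (hPc.1 hy)
    have h1 : av α⁻¹ x ∈ centralizerIn c.T (im P e) := by
      refine mem_centralizerIn.2 ⟨av_mem _ hx.1, fun z hz => ?_⟩
      obtain ⟨y, hy, rfl⟩ := he.1.mem_im.1 hz
      have h2 := (mem_centralizerIn.1 hx).2 (g y) (mem_im_of_mem hy)
      have h3 := congrArg (av α⁻¹) h2
      rw [hαi.map_mul (hgT y hy) hx.1, hαi.map_mul hx.1 (hgT y hy), hge y hy,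
        av_inv_av α (c.lmap_mem he hy)] at h3
      exact h3
    have h4 := hPc.2 _ (isConj_iff.2 ⟨e, c.map_sys.2 he, rfl⟩) h1
    obtain ⟨y, hy, hye⟩ := he.1.mem_im.1 h4
    have h5 : g y = x := by rw [hge y hy, hye, av_av_inv α hx.1]
    exact h5 ▸ mem_im_of_mem hy

theorem Ctx.sys_invariant : c.sys.IsInvariantIn F := by
  haveI := c.finT
  refine ⟨c.sys_sub, c.tClosed, fun P hPT φ hφ α hα => ?_, fun P hPT φ hφ => ?_⟩
  · obtain ⟨k, hk, hke⟩ := c.transport hα hφ.2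
    have hP' : (P.subgroupOf c.T).map (c.T.subtype.comp α.toMonoidHom) = im P (av α) :=
      map_subgroupOf_eq_im hPT fun x => (av_coe α x).symm
    have hk' : Map c.sys ((P.subgroupOf c.T).map (c.T.subtype.comp α.toMonoidHom)) k :=
      hP'.symm ▸ c.map_sys.2 hk
    obtain ⟨χ, hχ, hχe⟩ := hk'
    refine ⟨χ, hχ, fun x hx hαx => ?_⟩
    rw [hχe]
    show k ((α ⟨x, hPT x.2⟩ : c.T) : Ω) = _
    rw [← av_apply α (hPT x.2), hke x x.2, fn_coe, av_apply α hx]
  · obtain ⟨α, hα, e, he, hfe⟩ := c.dec_all P _ hPT (map_of_mem hφ)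
    obtain ⟨φ₀, hφ₀, hφ₀e⟩ := c.map_sys.2 he
    refine ⟨α, hα, φ₀, hφ₀, fun x hx => ?_⟩
    rw [← fn_coe φ x, hfe x x.2, ← hφ₀e x, av_apply α hx]

theorem Ctx.shift_mem {G : Type u} [Group G] {ι : ↥(normalizerIn S c.T) →* G} {W : Subgroup G}
    (K : c.Key c.T ι W) {w : G} (hw : w ∈ W) {x : Ω} (hx : x ∈ centralizerIn S c.T) :
    x⁻¹ * act ι w x ∈ c.T ⊓ Subgroup.centralizer (c.T : Set Ω) :=
  ⟨⟨(K.part₁ w hw).2 x hx, (K.part₂ w hw).2 x hx⟩,
    Subgroup.mul_mem _ (Subgroup.inv_mem _ hx.2) (K.model.act_cent c.tS w hx).2⟩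

theorem Ctx.sys_normal : c.sys.IsNormalIn F p := by
  refine ⟨⟨c.sys_saturated, c.sat, c.sys_invariant⟩, fun a ha => ?_⟩
  obtain ⟨G, hG, ι, W, K⟩ := c.exists_key c.fn_T c.good_top
  obtain ⟨w, hw, hwa⟩ := K.gen_le a (c.aut_top_le ha)
  obtain ⟨π, hπ, hπF⟩ := K.model.exists_toAutH c.tS
  refine ⟨π w, hπF w, fun x => ?_, fun x hx => ?_⟩
  · show ((π w ⟨x, _⟩ : ↥(hat S c.T)) : Ω) = _
    rw [← av_apply (π w) (Subgroup.mem_sup_left x.2), hπ w x (Subgroup.mem_sup_left x.2), ← hwa x x.2,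
      av_apply a x.2]
  · rw [← av_apply (π w) x.2, hπ w x x.2]
    exact c.shift_mem K hw hx

/-- The meet is normal in a normal subsystem containing it. -/
theorem Ctx.sys_normal_sub {T : Subgroup Ω} {E : FusionSystem T} (hE : E.IsNormalIn F p)
    (hUT : c.T ≤ T) (hY : ∀ P, c.Y P ≤ E.autGroup P)
    (hpart : ∀ {G : Type u} [Group G] {ι : ↥(normalizerIn S c.T) →* G} {W : Subgroup G},
      c.Key c.T ι W → ∀ w ∈ W, Part E S c.T (act ι w)) : c.sys.IsNormalIn E p := by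
  obtain ⟨⟨hEs, -, hEi⟩, -⟩ := id hE
  have hT := hEi.2.1
  haveI := finite_of_le hT.1
  have hsub : c.sys.IsSubsystemOf E := fun P φ hφ =>
    (c.lmap_sub hUT hT.1 hY hφ.2).mem_hom fun x => (fn_coe φ x).symm
  have hcl : E.StronglyClosed c.T := stronglyClosed_iff.2 ⟨hUT, fun P f hP hf x hx =>
    stronglyClosed_map c.tClosed (hf.of_sub hEi.1) hx (hP hx)⟩
  have hinv := (isInvariantIn_iff c.pS c.sat c.sys_sub c.tClosed).1 c.sys_invariant
  refine ⟨⟨c.sys_saturated, hEs, (isInvariantIn_iff (c.pS.to_le hT.1) hEs hsub hcl).2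
    fun P Q f g h1 h2 h3 h4 h5 => hinv P Q f g h1 h2 h3 h4 (h5.of_sub hEi.1)⟩, fun a ha => ?_⟩
  obtain ⟨G, hG, ι, W, K⟩ := c.exists_key c.fn_T c.good_top
  obtain ⟨w, hw, hwa⟩ := K.gen_le a (c.aut_top_le ha)
  have hm := (hpart K w hw).1
  haveI := finite_of_le (hat_le_of hUT : hat T c.T ≤ T)
  obtain ⟨β, hβ, hβe⟩ := exists_aut hm (Subgroup.eq_of_le_of_card_ge
    (im_le_iff.2 (hat_stable hT (K.model.act_hat c.tS w) (K.model.act_im c.tS w))) hm.card_im.ge)
  refine ⟨β, hβ, fun x => ?_, fun x hx => ?_⟩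
  · show ((β ⟨x, _⟩ : ↥(hat T c.T)) : Ω) = _
    rw [← av_apply β (Subgroup.mem_sup_left x.2), hβe x (Subgroup.mem_sup_left x.2), ← hwa x x.2,
      av_apply a x.2]
  · rw [← av_apply β x.2, hβe x x.2]
    exact c.shift_mem K hw (mem_centralizerIn_of_sub hT.1 hx)

theorem Ctx.sys_normal₁ : c.sys.IsNormalIn E₁ p :=
  c.sys_normal_sub c.n₁ c.le₁ (fun _ => c.Y_le₁) fun K => K.part₁

theorem Ctx.sys_normal₂ : c.sys.IsNormalIn E₂ p :=
  c.sys_normal_sub c.n₂ c.le₂ (fun _ => c.Y_le₂) fun K => K.part₂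

/-! ### Maximality -/

/-- An automorphism of `T` extending to `F` with shift inside `T` induces a member of a normal subsystem on
`T C(T)` if it does so up to such a shift. -/
theorem Ctx.part_of_extension {T : Subgroup Ω} {E : FusionSystem T} (hE : E.IsInvariantIn F)
    (hUT : c.T ≤ T) {a : MulAut c.T} {b : MulAut ↥(hat S c.T)} (hb : b ∈ F.autGroup (hat S c.T))
    (hbo : (orderOf b).Coprime p) (hba : ∀ x ∈ c.T, av b x = av a x)
    (hbs : ∀ x ∈ centralizerIn S c.T, x⁻¹ * av b x ∈ c.T)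
    {β : MulAut ↥(hat T c.T)} (hβ : β ∈ E.autGroup (hat T c.T)) (hβa : ∀ x ∈ c.T, av β x = av a x)
    (hβs : ∀ x ∈ centralizerIn T c.T, x⁻¹ * av β x ∈ c.T) : Part E S c.T (av b) := by
  have hT := hE.2.1
  haveI := finite_of_le hT.1
  have hHT : hat T c.T ≤ T := hat_le_of hUT
  have hHS := hHT.trans hT.1
  haveI := finite_of_le hHS
  haveI := mulAut_finite_of_le hHS
  haveI := finite_of_le (hat_le_of c.tS : hat S c.T ≤ S)
  haveI := mulAut_finite_of_le (hat_le_of c.tS : hat S c.T ≤ S)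
  have hbm := map_of_mem_autGroup (hat_le_of c.tS) hb
  have hbi : im c.T (av b) = c.T := by
    rw [im_congr (g := av a) hba, im_av]
  have hsub : hat T c.T ≤ hat S c.T := hat_sub hT.1
  have hm := hbm.restrict hsub
  obtain ⟨b', hb', hb'e⟩ := exists_aut hm (Subgroup.eq_of_le_of_card_ge
    (im_le_iff.2 (hat_stable hT hbm hbi)) hm.card_im.ge)
  have hb'o : (orderOf b').Coprime p := hbo.coprime_dvd_left (orderOf_dvd_of_pow_eq_one (aut_ext fun x hx => by
    rw [← av_pow hsub (fun y hy => (hb'e y hy).symm) (orderOf b) x hx, pow_orderOf_eq_one, av_one (hsub hx),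
      av_one hx]))
  have hβT : ∀ y ∈ c.T, av β⁻¹ y ∈ c.T := fun y hy => by
    have h1 : av a (av a⁻¹ y) = y := av_av_inv a hy
    rw [← hβa _ (av_mem _ hy)] at h1
    rw [← h1, av_inv_av β (Subgroup.mem_sup_left (av_mem _ hy))]
    exact av_mem _ hy
  have hfix : ∀ x ∈ c.T, av (β⁻¹ * b') x = x := fun x hx => by
    have hx' : x ∈ hat T c.T := Subgroup.mem_sup_left hx
    rw [av_mul _ _ hx', hb'e x hx', hba x hx, ← hβa x hx, av_inv_av β hx']
  have hβm := map_of_mem_autGroup hHT hβ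
  have hC : ∀ x ∈ centralizerIn T c.T, x⁻¹ * av (β⁻¹ * b') x ∈ c.T := fun x hx => by
    have hx' : x ∈ hat T c.T := Subgroup.mem_sup_right hx
    have h1 := hbs x (mem_centralizerIn_of_sub hT.1 hx)
    obtain ⟨t, htd⟩ : ∃ t, t = (x⁻¹ * av β x)⁻¹ * (x⁻¹ * av b x) := ⟨_, rfl⟩
    have ht : t ∈ c.T := htd ▸ c.T.mul_mem (c.T.inv_mem (hβs x hx)) h1
    have ht' : av β⁻¹ t ∈ c.T := hβT t ht
    have h2 : av β (x * av β⁻¹ t) = av b' x := by
      rw [hβm.map_mul hx' (Subgroup.mem_sup_left ht'), av_av_inv β (Subgroup.mem_sup_left ht), htd, hb'e x hx']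
      group
    rw [av_mul _ _ hx', ← h2, av_inv_av β (Subgroup.mul_mem _ hx' (Subgroup.mem_sup_left ht')),
      inv_mul_cancel_left]
    exact ht'
  have hδ : ∀ x ∈ hat T c.T, x⁻¹ * av (β⁻¹ * b') x ∈ c.T := by
    intro x hx
    obtain ⟨z, hz, t, ht, rfl⟩ := mem_sup_of_normalized (S := normalizerIn T c.T) (P := centralizerIn T c.T)
      (Q := c.T) inf_le_right centralizerIn_le_normalizerIn (by rw [sup_comm]; exact hx)
    have hδm := map_of_mem_autGroup (hHT.trans hT.1)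
      ((F.autGroup _).mul_mem ((F.autGroup _).inv_mem (autGroup_sub_le hE hHT hβ)) hb')
    rw [hδm.map_mul (Subgroup.mem_sup_right hz) (Subgroup.mem_sup_left ht), hfix t ht]
    have h1 := c.T.mul_mem (c.T.mul_mem (c.T.inv_mem ht) (hC z hz)) ht
    simpa [mul_assoc] using h1
  obtain ⟨j, hj⟩ := exists_pow_eq_one_of_stabilizes (c.pS.to_le hHS) (α := β⁻¹ * b')
    (fun i => if i = 0 then ⊥ else if i = 1 then c.T else hat T c.T) 2 rfl (by simp)
    (monotone_nat_of_le_succ fun i => by rcases i with _ | _ | i <;> simp)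
    (fun i hi x hx hxC => by
      rcases i with _ | _ | i
      · simp only [zero_add, one_ne_zero, if_false, if_true] at hxC ⊢
        rw [Subgroup.mem_bot, hfix x hxC, inv_mul_cancel]
      · simpa using hδ x hx
      · omega)
  have hmem := mem_of_mul_pElement hb'o (Subgroup.mem_normalizer_iff.2 fun y =>
    ⟨fun hy => conj_mem_sub hE hHT hb' hy, fun hy => by
      simpa [mul_assoc] using conj_mem_sub hE hHT ((F.autGroup _).inv_mem hb') hy⟩) hβ hj
  exact ⟨(map_of_mem_autGroup hHT hmem).congr hb'e, fun x hx => hUT (hbs x hx)⟩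

theorem Ctx.top_le_Y {D : FusionSystem c.T} (hF : D.IsNormalIn F p) (h₁ : D.IsNormalIn E₁ p)
    (h₂ : D.IsNormalIn E₂ p) : D.autGroup c.T ≤ c.Y c.T := by
  haveI := c.finT
  haveI := mulAut_finite_of_le c.tS
  intro a ha
  obtain ⟨⟨hDs, -, hDi⟩, hext⟩ := id hF
  have hco : ∀ b ∈ D.autGroup c.T, (orderOf b).Coprime p → b ∈ c.Y c.T := by
    intro b hb hbo
    obtain ⟨β, hβ, hβT, hβC⟩ := hext b hb
    haveI := finite_of_le (hat_le_of c.tS : hat S c.T ≤ S)
    haveI := mulAut_finite_of_le (hat_le_of c.tS : hat S c.T ≤ S)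
    have hHS : hat S c.T ≤ S := hat_le_of c.tS
    have hTH : c.T ≤ hat S c.T := le_sup_left
    have hβb : ∀ x ∈ c.T, av β x = av b x := fun x hx => by
      rw [av_apply β (hTH hx), av_apply b hx]; exact hβT ⟨x, hx⟩
    have hβm := map_of_mem_autGroup hHS hβ
    have hβi : im c.T (av β) = c.T := by rw [im_congr (g := av b) hβb, im_av]
    have hβs : ∀ x ∈ centralizerIn S c.T, x⁻¹ * av β x ∈ c.T := fun x hx => by
      rw [av_apply β (Subgroup.mem_sup_right hx)]; exact (hβC ⟨x, _⟩ hx).1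
    have hs : ∀ n : ℕ, ∀ x ∈ centralizerIn S c.T, x⁻¹ * av (β ^ n) x ∈ c.T := by
      intro n
      induction n with
      | zero => intro x hx; rw [pow_zero, av_one (Subgroup.mem_sup_right hx), inv_mul_cancel]; exact c.T.one_mem
      | succ n ih =>
        intro x hx
        have hx' : av β x ∈ centralizerIn S c.T := by
          have := hβm.mem_centralizer hTH (Subgroup.mem_sup_right hx) (mem_centralizerIn.1 hx).2
          rwa [hβi] at this
        have h1 := c.T.mul_mem (hβs x hx) (ih _ hx')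
        rw [pow_succ, av_mul _ _ (Subgroup.mem_sup_right hx)]
        simpa [mul_assoc] using h1
    obtain ⟨i, r, hr, hord⟩ := Nat.exists_eq_pow_mul_and_not_dvd (orderOf_pos β).ne' p
      (Fact.out : p.Prime).ne_one
    obtain ⟨m, hm⟩ := exists_pow_eq_self_of_coprime (x := b) (n := p ^ i) (hbo.symm.pow_left i)
    obtain ⟨γ, hγd⟩ : ∃ γ, γ = (β ^ p ^ i) ^ m := ⟨_, rfl⟩
    have hγo : (orderOf γ).Coprime p := ((Nat.Prime.coprime_iff_not_dvd Fact.out).2 hr).symm.coprime_dvd_left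
      (orderOf_dvd_of_pow_eq_one (by
        rw [hγd, ← pow_mul, mul_comm m, pow_mul, ← pow_mul β, ← hord, pow_orderOf_eq_one, one_pow]))
    have hγb : ∀ x ∈ c.T, av γ x = av b x := fun x hx => by
      rw [hγd, ← pow_mul, av_pow hTH hβb _ x hx, pow_mul, hm]
    have hγF : γ ∈ F.autGroup (hat S c.T) := hγd ▸ pow_mem (pow_mem hβ _) _
    have hγs : ∀ x ∈ centralizerIn S c.T, x⁻¹ * av γ x ∈ c.T := fun x hx => by
      rw [hγd, ← pow_mul]; exact hs _ x hx
    have hpart : ∀ {T : Subgroup Ω} {E : FusionSystem T}, E.IsNormalIn F p → c.T ≤ T → D.IsNormalIn E p →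
        Part E S c.T (av γ) := by
      intro T E hE hUT hDE
      obtain ⟨δ, hδ, hδT, hδC⟩ := hDE.2 b hb
      exact c.part_of_extension hE.1.2.2 hUT hγF hγo hγb hγs hδ (fun x hx => by
        rw [av_apply δ (Subgroup.mem_sup_left hx), av_apply b hx]; exact hδT ⟨x, hx⟩) fun x hx => by
        rw [av_apply δ (Subgroup.mem_sup_right hx)]; exact (hδC ⟨x, _⟩ hx).1
    exact Subgroup.subset_closure (Or.inr ⟨c.T, c.good_top, (fc_fa_of_fn c.pS c.sat c.fn_T).1, γ,
      ⟨hγF, fun x hx => by rw [hγb x hx]; exact av_mem b hx, hγo, hpart c.n₁ c.le₁ h₁, hpart c.n₂ c.le₂ h₂⟩,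
      id, map_id c.tS, im_id, fun x hx => (hγb x hx).symm⟩)
  have hsyl := (fa_iff.1 (fc_fa_of_fn c.pT hDs
    (fn_of_sub c.pS c.sat c.tClosed hDi.1 le_rfl c.fn_T)).2).2
  have hpel : ∀ b ∈ D.autGroup c.T, ∀ k : ℕ, b ^ p ^ k = 1 → b ∈ c.Y c.T := by
    intro b hb k hk
    have hp : IsPGroup p ↥(Subgroup.zpowers b) := by
      obtain ⟨i, -, hi⟩ := (Nat.dvd_prime_pow Fact.out).1 (orderOf_dvd_of_pow_eq_one hk)
      exact IsPGroup.of_card ((Nat.card_zpowers b).trans hi)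
    obtain ⟨x, hx, hle⟩ := hsyl.conj_le hp (Subgroup.zpowers_le.2 hb)
    have h1 := c.autT_le_Y le_rfl (hle (conj_mem_cj (g := x) (Subgroup.mem_zpowers b)))
    have hxF := autGroup_sub_le hDi le_rfl hx
    simpa [mul_assoc] using c.Y_conj le_rfl (inv_mem hxF) h1
  obtain ⟨k, r, hr, hord⟩ := Nat.exists_eq_pow_mul_and_not_dvd (orderOf_pos a).ne' p
    (Fact.out : p.Prime).ne_one
  have hro : r.Coprime p := ((Nat.Prime.coprime_iff_not_dvd Fact.out).2 hr).symm
  have h1 : a ^ p ^ k ∈ c.Y c.T := hco _ (pow_mem ha _) (hro.coprime_dvd_left (orderOf_dvd_of_pow_eq_one (by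
    rw [← pow_mul, ← hord, pow_orderOf_eq_one])))
  have h2 : a ^ r ∈ c.Y c.T := hpel _ (pow_mem ha _) k (by rw [← pow_mul, mul_comm, ← hord, pow_orderOf_eq_one])
  have h3 : a ^ ((Nat.gcd (p ^ k) r : ℕ) : ℤ) ∈ c.Y c.T := by
    rw [Nat.gcd_eq_gcd_ab, zpow_add, zpow_mul, zpow_mul, zpow_natCast, zpow_natCast]
    exact mul_mem (zpow_mem h1 _) (zpow_mem h2 _)
  rwa [(hro.symm.pow_left k).gcd_eq_one, Nat.cast_one, zpow_one] at h3

theorem Ctx.aut_le_sys {D : FusionSystem c.T} (hF : D.IsNormalIn F p) (h₁ : D.IsNormalIn E₁ p)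
    (h₂ : D.IsNormalIn E₂ p) : ∀ Q : Subgroup Ω, c.Cent Q → D.autGroup Q ≤ c.sys.autGroup Q := by
  haveI := c.finT
  obtain ⟨⟨hDs, -, hDi⟩, -⟩ := id hF
  suffices ∀ n, ∀ Q : Subgroup Ω, Nat.card c.T - Nat.card Q = n → c.Cent Q → D.autGroup Q ≤ c.sys.autGroup Q from
    fun Q hQ => this _ Q rfl hQ
  intro n
  induction n using Nat.strong_induction_on with
  | _ n ih =>
  intro Q hn hQ a ha
  rcases eq_or_lt_of_le hQ.1 with he | hlt
  · subst he
    exact (c.mem_autSys le_rfl).2 (c.lmap_Y hQ (c.top_le_Y hF h₁ h₂ ha))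
  have hQS := hQ.1.trans c.tS
  obtain ⟨Q₀, hQQ, hfn⟩ := exists_fullyNormalized (F := F) hQS
  obtain ⟨u, hu, rfl⟩ := isConj_iff.1 hQQ
  have hQ₀ : c.Cent (im Q u) := c.cent_im hQ hu
  have hQ₀T := hQ₀.1
  have hQ₀c : Nat.card ↥(im Q u) = Nat.card Q := hu.card_im
  have hlt₀ : im Q u < c.T := lt_of_le_of_ne hQ₀T fun h => by
    have := card_lt_of_lt hlt c.tS
    rw [← hQ₀c, h] at this
    exact lt_irrefl _ this
  haveI := mulAut_finite_of_le (hQ₀T.trans c.tS)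
  obtain ⟨e, he⟩ := exists_equiv hu rfl
  suffices hall : ∀ b ∈ D.autGroup (im Q u), b ∈ c.sys.autGroup (im Q u) by
    obtain ⟨k, hk, hku, huk, hki⟩ := hu.exists_inv
    have he' : ∀ y : ↥(im Q u), ((e.symm y : Q) : Ω) = k y := fun y => by
      have h1 := hku (e.symm y) (SetLike.coe_mem _)
      rw [← he, e.apply_symm_apply] at h1
      exact h1.symm
    have h1 := congr_mem_sub c.sys_invariant hk hQ₀T hki he'
      (hall _ (congr_mem_sub hDi hu hQ.1 rfl he ha))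
    convert h1 using 1
    ext x
    simp [MulAut.congr]
  intro b hb
  have hsyl := (fa_iff.1 (fc_fa_of_fn c.pT hDs
    (fn_of_sub c.pS c.sat c.tClosed hDi.1 hQ₀T hfn)).2).2
  have hN : D.autGroup (im Q u) ≤ Subgroup.normalizer
      ((c.Y (im Q u) ⊓ D.autGroup (im Q u) : Subgroup _) : Set (MulAut ↥(im Q u))) := fun d hd =>
    normalizer_le_normalizer_inf (Subgroup.mem_normalizer_iff.2 fun y =>
      ⟨c.Y_conj hQ₀T (autGroup_sub_le hDi hQ₀T hd), fun hy => by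
        simpa [mul_assoc] using c.Y_conj hQ₀T (inv_mem (autGroup_sub_le hDi hQ₀T hd)) hy⟩)
      (Subgroup.le_normalizer hd)
  obtain ⟨y, hy, hyn⟩ := frattini_conj (hsyl.mono (le_inf (c.autT_le_Y hQ₀T) hsyl.le) inf_le_right) hN hb
  obtain ⟨γ, hγd⟩ : ∃ γ, γ = y * b := ⟨_, rfl⟩
  rw [← hγd] at hyn
  have hγ : γ ∈ D.autGroup (im Q u) := hγd ▸ mul_mem hy.2 hb
  have hm := map_of_mem_autGroup hQ₀T hγ
  obtain ⟨k, hk, hkγ⟩ := (receptive_iff.1 (receptive_of_fc c.pT hDs (fc_fa_of_fn c.pT hDs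
    (fn_of_sub c.pS c.sat c.tClosed hDi.1 hQ₀T hfn)).1)).2 _ _ hm (im_av γ)
  have hle : normalizerIn c.T (im Q u) ≤ Nf c.T (im Q u) (av γ) := by
    rintro t ⟨ht, htn⟩
    obtain ⟨d, hd, hdT⟩ := exists_aut_conj (P := im Q u) htn
    obtain ⟨h, hh, hhe⟩ := mem_autInducedBy.1 ((Subgroup.mem_normalizer_iff.1 hyn d).1 (hdT c.T ht))
    refine mem_Nf.2 ⟨ht, htn, h, hh, fun x hx => ?_⟩
    have h1 := hhe _ (av_mem γ hx)
    rwa [av_mul _ _ (av_mem γ hx), av_inv_av γ hx, av_mul _ _ hx, hd x hx] at h1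
  have hkN := hk.restrict hle
  have hQN : im Q u ≤ normalizerIn c.T (im Q u) := le_normalizerIn hQ₀T
  haveI : Finite ↥(normalizerIn c.T (im Q u)) := finite_of_le (inf_le_left.trans c.tS)
  obtain ⟨d, hd, hde⟩ := exists_aut hkN (Subgroup.eq_of_le_of_card_ge (im_le_iff.2 fun x hx => by
    refine ⟨hkN.mem hx, ?_⟩
    have := (hkN.mem_normalizer hQN hx hx.2).2
    rwa [im_congr hkγ, im_av] at this) hkN.card_im.ge)
  have hlt' := card_lt_of_lt (lt_normalizerIn c.pT hlt₀) (inf_le_left.trans c.tS)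
  have h8 : Nat.card ↥(im Q u) < Nat.card ↥(normalizerIn c.T (im Q u)) := hlt'
  have h9 : Nat.card ↥(normalizerIn c.T (im Q u)) ≤ Nat.card ↥c.T := Subgroup.card_le_of_le inf_le_left
  have hdS := ih (Nat.card ↥c.T - Nat.card ↥(normalizerIn c.T (im Q u))) (by
    rw [← hn, ← hQ₀c]
    omega) _ rfl (c.cent_mono hQ₀ hQN inf_le_left) hd
  have h1 : c.LMap (im Q u) (av γ) := (((c.mem_autSys inf_le_left).1 hdS).restrict hQN).congr fun x hx =>
    (hde x (hQN hx)).trans (hkγ x hx)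
  refine (c.mem_autSys hQ₀T).2 ((h1.comp (c.lmap_Y hQ₀ (inv_mem hy.1)) fun x hx => av_mem γ hx).congr
    fun x hx => ?_)
  show av y⁻¹ (av γ x) = av b x
  rw [← av_mul _ _ hx, hγd, inv_mul_cancel_left]

theorem Ctx.maximal {D : FusionSystem c.T} (hF : D.IsNormalIn F p) (h₁ : D.IsNormalIn E₁ p)
    (h₂ : D.IsNormalIn E₂ p) : D.IsSubsystemOf c.sys := by
  haveI := c.finT
  obtain ⟨⟨hDs, -, hDi⟩, -⟩ := id hF
  intro P φ hφ
  refine (c.map_sys.2 ?_).mem_hom fun x => (fn_coe φ x).symm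
  have hK : IsClosedClass D c.LMap :=
    { congr := fun h he => h.congr he
      restrict := fun _ h hR => h.restrict hR
      comp := fun _ _ h h' hm => h.comp h' hm
      inv := fun _ h hg => c.lmap_closed.inv h.1 h hg }
  refine alperin c.pT hDs hK (fun R hR a ha => ?_) P _ (map_of_mem hφ)
  have hRc : c.Cent R := by
    rcases hR with rfl | hR
    · exact c.good_top
    · exact ⟨hR.1.1, fun g hg => centric_sub hDi hR.1 hg⟩
  exact (c.mem_autSys hRc.1).1 (c.aut_le_sys hF h₁ h₂ R hRc ha)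

end Cfsg.Agent.Local.FS.Meet
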