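import Cfsg.Agent.Lib.Local.FS.Meet.Key

/-!
Meets of normal subsystems: the conjugations from the part of the model are generated maps.
-/

set_option autoImplicit false

namespace Cfsg.Agent.Local.FS.Meet

open Cfsg Cfsg.FusionSystem Cfsg.Agent.Fusion Cfsg.Agent.Local.FS

universe u v

variable {Ω : Type u} [Group Ω] {S T : Subgroup Ω} {F : FusionSystem S} {E : FusionSystem T}
  {P Q X Z : Subgroup Ω} {f : Ω → Ω} {p : ℕ}
  {G : Type v} [Group G] {ι : ↥(normalizerIn S Q) →* G}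
  [Finite S] [Fact p.Prime]

omit [Finite S] [Fact p.Prime] in
theorem act_spec {g : G} {x : Ω} (hP : P ≤ normalizerIn S Q) (hg : cj (imG ι P) g ≤ ι.range) (hx : x ∈ P) :
    g * ue ι x * g⁻¹ ∈ ι.range := hg (conj_mem_cj (ue_mem_up hP hx))

namespace LModel

variable (L : LModel F p Q ι)
include L

omit [Finite S] [Fact p.Prime] in
theorem map_act (hP : P ≤ normalizerIn S Q) {g : G} (hg : cj (imG ι P) g ≤ ι.range) : Map F P (act ι g) :=
  (L.mapG P hP g fun _ hx => act_spec hP hg hx).restrict le_sup_left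

omit [Fact p.Prime] in
theorem imG_im (hP : P ≤ normalizerIn S Q) {g : G} (hg : cj (imG ι P) g ≤ ι.range) :
    imG ι (im P (act ι g)) = cj (imG ι P) g := by
  have hm : im P (act ι g) ≤ normalizerIn S Q := im_le_iff.2 fun _ _ => act_mem
  ext z
  constructor
  · intro hz
    obtain ⟨y, hy, rfl⟩ := (mem_imG hm).1 hz
    obtain ⟨x, hx, rfl⟩ := (L.map_act hP hg).mem_im.1 hy
    rw [ue_act (act_spec hP hg hx)]
    exact conj_mem_cj (ue_mem_up hP hx)
  · rintro ⟨y, hy, rfl⟩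
    obtain ⟨x, hx, rfl⟩ := (mem_imG hP).1 hy
    show g * ue ι x * g⁻¹ ∈ _
    rw [← ue_act (act_spec hP hg hx)]
    exact ue_mem_up hm (mem_im_of_mem hx)

omit [Finite S] [Fact p.Prime] in
theorem cj_range {g : G} (hg : g ∈ Subgroup.normalizer (imG ι P : Set G)) : cj (imG ι P) g ≤ ι.range :=
  (cj_eq_self hg).le.trans (Subgroup.map_le_range ι _)

omit [Finite S] [Fact p.Prime] in
theorem act_normalizer (hP : P ≤ normalizerIn S Q) {g : G}
    (hg : g ∈ Subgroup.normalizer (imG ι P : Set G)) {x : Ω} (hx : x ∈ P) : act ι g x ∈ P := by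
  obtain ⟨y, hy, hye⟩ := (mem_imG hP).1 ((cj_eq_self hg).le (conj_mem_cj (g := g) (ue_mem_up hP hx)))
  rw [act_eq L.inj (hP hy) hye]
  exact hy

omit [Fact p.Prime] in
theorem exists_aut_act (hP : P ≤ normalizerIn S Q) {g : G}
    (hg : g ∈ Subgroup.normalizer (imG ι P : Set G)) :
    ∃ a ∈ F.autGroup P, ∀ x ∈ P, av a x = act ι g x := by
  have hm := L.map_act hP (L.cj_range hg)
  haveI := finite_of_le hm.le
  exact exists_aut hm (Subgroup.eq_of_le_of_card_ge (im_le_iff.2 fun x hx => L.act_normalizer hP hg hx)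
    hm.card_im.ge)

omit [Fact p.Prime] in
/-- An automorphism induced by an element of order prime to `p` has order prime to `p`. -/
theorem coprime_of_act (hP : P ≤ normalizerIn S Q) {g : G} (hgo : (orderOf g).Coprime p) {a : MulAut P}
    (ha : ∀ x ∈ P, av a x = act ι g x) (hg : g ∈ Subgroup.normalizer (imG ι P : Set G)) :
    (orderOf a).Coprime p := by
  refine hgo.coprime_dvd_left (orderOf_dvd_of_pow_eq_one (aut_ext fun x hx => ?_))
  have key : ∀ n : ℕ, av (a ^ n) x = act ι (g ^ n) x := fun n => by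
    induction n with
    | zero => rw [pow_zero, pow_zero, av_one hx, act_one L.inj (hP hx)]
    | succ n ih =>
      rw [pow_succ', pow_succ', av_mul _ _ hx, ha _ (av_mem _ hx), ih,
        act_comp (act_spec hP (L.cj_range (Subgroup.pow_mem _ hg n)) hx)]
  rw [key, pow_orderOf_eq_one, act_one L.inj (hP hx), av_one hx]

end LModel

omit [Finite S] in
theorem normalizer_le_normalizer_centralizer {A : Subgroup G} :
    Subgroup.normalizer (A : Set G) ≤ Subgroup.normalizer (Subgroup.centralizer (A : Set G) : Set G) :=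
  fun _ hg => mem_normalizer_iff_cj.2 (by rw [cj_centralizer, cj_eq_self hg])

omit [Fact p.Prime] [Finite S] in
theorem normalizer_le_normalizer_inf {A B : Subgroup G} {g : G}
    (hA : g ∈ Subgroup.normalizer (A : Set G)) (hB : g ∈ Subgroup.normalizer (B : Set G)) :
    g ∈ Subgroup.normalizer ((A ⊓ B : Subgroup G) : Set G) :=
  mem_normalizer_iff_cj.2 (by rw [cj_inf, cj_eq_self hA, cj_eq_self hB])

variable {T₁ T₂ : Subgroup Ω} {E₁ : FusionSystem T₁} {E₂ : FusionSystem T₂} {c : Ctx F E₁ E₂ p}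

namespace Ctx.Key

variable {W : Subgroup G} (K : c.Key Q ι W)
include K

omit [Finite S] [Fact p.Prime] in
theorem nT_le : normalizerIn c.T Q ≤ normalizerIn S Q := inf_le_inf_right _ c.tS

/-- A conjugate of a subgroup between `Q` and `N_T(Q)` is one as well. -/
theorem im_between (hQ : F.IsFullyNormalized Q) (hQZ : Q ≤ Z) (hZ : Z ≤ normalizerIn c.T Q) {g : G}
    (hg : cj (imG ι Z) g ≤ ι.range) :
    Q ≤ im Z (act ι g) ∧ im Z (act ι g) ≤ normalizerIn c.T Q := by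
  have hZS := hZ.trans K.nT_le
  exact ⟨(K.model.act_im hQ.1 g).ge.trans (im_mono hQZ), im_le_iff.2 fun x hx =>
    ⟨stronglyClosed_map c.tClosed (K.model.map_act hZS hg) hx (hZ hx).1, (act_mem (ι := ι)).2⟩⟩

/-- `p`-elements normalizing `Z` induce generators. -/
theorem gen_of_pElement (hQ : F.IsFullyNormalized Q) (hQZ : Q ≤ Z) (hZ : Z ≤ normalizerIn c.T Q)
    {w : G} (hw : w ∈ W) (hwn : w ∈ Subgroup.normalizer (imG ι Z : Set G)) {j : ℕ} (hj : w ^ p ^ j = 1) :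
    ∃ a ∈ c.Y Z, ∀ x ∈ Z, av a x = act ι w x := by
  have L := K.model
  haveI := L.finite
  have hZS := hZ.trans K.nT_le
  have hZW : imG ι Z ≤ W := (Subgroup.map_mono (Subgroup.comap_mono hZ)).trans K.syl.le
  have hp : IsPGroup p ↥(imG ι Z ⊔ Subgroup.zpowers w) := by
    refine IsPGroup.to_sup_of_normal_left' (K.syl.isPGroup.to_le (Subgroup.map_mono (Subgroup.comap_mono hZ)))
      ?_ (Subgroup.zpowers_le.2 hwn)
    obtain ⟨i, -, hi⟩ := (Nat.dvd_prime_pow Fact.out).1 (orderOf_dvd_of_pow_eq_one hj)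
    exact IsPGroup.of_card ((Nat.card_zpowers w).trans hi)
  obtain ⟨a, -, hle⟩ := K.syl.conj_le hp (sup_le hZW (Subgroup.zpowers_le.2 hw))
  have hNr : imG ι (normalizerIn c.T Q) ≤ ι.range := Subgroup.map_le_range ι _
  have haZ : cj (imG ι Z) a ≤ ι.range := ((cj_mono le_sup_left a).trans hle).trans hNr
  obtain ⟨t, ht, hte⟩ := (mem_imG K.nT_le).1
    (hle (conj_mem_cj (g := a) (Subgroup.mem_sup_right (Subgroup.mem_zpowers w))))
  obtain ⟨hQZ', hZ'⟩ := K.im_between hQ hQZ hZ haZ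
  have hwr : ∀ x ∈ Z, w * ue ι x * w⁻¹ ∈ ι.range := fun x hx => act_spec hZS (L.cj_range hwn) hx
  have hZ'S := hZ'.trans K.nT_le
  have hbr : cj (imG ι (im Z (act ι a))) a⁻¹ ≤ ι.range := by
    rw [L.imG_im hZS haZ, cj_cj_inv]; exact Subgroup.map_le_range ι _
  have hback : ∀ x ∈ Z, act ι a⁻¹ (act ι a x) = x := fun x hx => by
    rw [act_comp (act_spec hZS haZ hx), inv_mul_cancel, act_one L.inj (hZS hx)]
  have hm := L.map_act hZS haZ
  have hstep : ∀ x ∈ Z, t * act ι a x * t⁻¹ = act ι a (act ι w x) := fun x hx => by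
    refine ue_inj L.inj (Subgroup.mul_mem _ (Subgroup.mul_mem _ (K.nT_le ht) act_mem)
      (Subgroup.inv_mem _ (K.nT_le ht))) act_mem ?_
    rw [ue_conj (K.nT_le ht) act_mem, hte, ue_act (act_spec hZS haZ hx),
      ue_act (act_spec hZS haZ (L.act_normalizer hZS hwn hx)), ue_act (hwr x hx)]
    group
  obtain ⟨α, -, hα⟩ := L.exists_aut_act hZS hwn
  refine ⟨α, Subgroup.subset_closure (Or.inl ⟨im Z (act ι a), hZ'.trans inf_le_left, act ι a⁻¹,
    L.map_act hZ'S hbr, ?_, t, ht.1, ?_, fun y hy => ?_⟩), hα⟩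
  · exact (L.map_act hZ'S hbr).im_eq (fun y hy => by
      obtain ⟨x, hx, rfl⟩ := hm.mem_im.1 hy
      rw [hback x hx]; exact hx) fun x hx => ⟨_, mem_im_of_mem hx, hback x hx⟩
  · refine mem_normalizer_of_conj_mem (hZ'S.trans inf_le_left) fun y hy => ?_
    obtain ⟨x, hx, rfl⟩ := hm.mem_im.1 hy
    rw [hstep x hx]
    exact mem_im_of_mem (L.act_normalizer hZS hwn hx)
  · obtain ⟨x, hx, rfl⟩ := hm.mem_im.1 hy
    rw [hback x hx, hstep x hx, hback _ (L.act_normalizer hZS hwn hx), hα x hx]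

/-- Elements of order prime to `p` normalizing `Z` induce generators. -/
theorem gen_of_coprime (hQ : F.IsFullyNormalized Q) (hC : c.Cent Q) (hQZ : Q ≤ Z)
    (hZ : Z ≤ normalizerIn c.T Q) {w : G} (hw : w ∈ W) (hwn : w ∈ Subgroup.normalizer (imG ι Z : Set G))
    (hwo : (orderOf w).Coprime p) : ∃ a ∈ c.Y Z, ∀ x ∈ Z, av a x = act ι w x := by
  have L := K.model
  haveI := L.finite
  haveI := K.normal
  have hQS := hQ.1
  have hZS := hZ.trans K.nT_le
  have hNp : IsPGroup p ↥ι.range := L.syl.isPGroup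
  obtain ⟨R, hR⟩ := exists_sylIn (p := p) (Subgroup.centralizer (imG ι Z : Set G))
  have hp : IsPGroup p ↥(imG ι Z ⊔ R) := IsPGroup.to_sup_of_normal_left'
    (hNp.to_le (Subgroup.map_le_range ι _)) hR.isPGroup (hR.le.trans (Subgroup.centralizer_le_normalizer _))
  obtain ⟨a, -, hle⟩ := L.syl.conj_le hp le_top
  have haZ : cj (imG ι Z) a ≤ ι.range := (cj_mono le_sup_left a).trans hle
  obtain ⟨Z', hZ'd⟩ : ∃ Z', Z' = im Z (act ι a) := ⟨_, rfl⟩
  obtain ⟨hQZ', hZ'⟩ : Q ≤ Z' ∧ Z' ≤ normalizerIn c.T Q := hZ'd ▸ K.im_between hQ hQZ hZ haZ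
  have hZ'S := hZ'.trans K.nT_le
  have hZ'T : Z' ≤ c.T := hZ'.trans inf_le_left
  have hG' : imG ι Z' = cj (imG ι Z) a := hZ'd ▸ L.imG_im hZS haZ
  have hCQ : centralizerIn S Z' ≤ centralizerIn S Q := fun x hx => mem_centralizerIn.2
    ⟨hx.1, fun y hy => (mem_centralizerIn.1 hx).2 y (hQZ' hy)⟩
  have hCN : centralizerIn S Z' ≤ normalizerIn S Q := hCQ.trans centralizerIn_le_normalizerIn
  obtain ⟨C, hCd⟩ : ∃ C, C = Subgroup.centralizer (imG ι Z' : Set G) := ⟨_, rfl⟩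
  obtain ⟨M, hMd⟩ : ∃ M, M = imG ι (centralizerIn S Z') := ⟨_, rfl⟩
  have hrC : ι.range ⊓ C ≤ M := by
    rintro _ ⟨⟨x, rfl⟩, hx⟩
    rw [hMd]
    refine ⟨x, mem_centralizerIn.2 ⟨x.2.1, fun r hr => ?_⟩, rfl⟩
    rw [hCd] at hx
    have h1 := Subgroup.mem_centralizer_iff.1 hx (ι ⟨r, hZ'S hr⟩) ⟨_, hr, rfl⟩
    rw [← map_mul, ← map_mul] at h1
    exact congrArg Subtype.val (L.inj h1)
  have hMC : M ≤ C := by
    rw [hMd, hCd]
    intro z hz
    obtain ⟨x, hx, rfl⟩ := (mem_imG hCN).1 hz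
    refine Subgroup.mem_centralizer_iff.2 fun y hy => ?_
    obtain ⟨r, hr, rfl⟩ := (mem_imG hZ'S).1 hy
    rw [← ue_mul (hZ'S hr) (hCN hx), ← ue_mul (hCN hx) (hZ'S hr), (mem_centralizerIn.1 hx).2 r hr]
  have hMp : IsPGroup p ↥M := hNp.to_le (hMd ▸ Subgroup.map_le_range ι _)
  have hMsyl : SylIn p M C := by
    have h1 : SylIn p (cj R a) C := by
      have := hR.cj a
      rwa [cj_centralizer, ← hG', ← hCd] at this
    have h2 : cj R a ≤ M := fun z hz => hrC ⟨hle (cj_mono le_sup_right a hz), h1.le hz⟩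
    rwa [← h1.eq_of_le hMp h2 hMC] at h1
  -- `Z'` is fully centralised
  have hZ'c : F.IsFullyCentralized Z' := by
    refine ⟨hZ'S.trans inf_le_left, fun Z₁ hZ₁ => ?_⟩
    obtain ⟨ψ, hψ, rfl⟩ := isConj_iff.1 hZ₁
    obtain ⟨Q₁, hQ₁d⟩ : ∃ Q₁, Q₁ = im Q ψ := ⟨_, rfl⟩
    obtain ⟨χ, hχ, hχN, hχi⟩ := exists_map_normalizer_fn c.pS c.sat hQ
      (isConj_symm (isConj_iff.2 ⟨ψ, hψ.restrict hQZ', hQ₁d.symm⟩ : F.IsConj Q Q₁))
    have hQ₁Z : Q₁ ≤ im Z' ψ := hQ₁d ▸ im_mono hQZ'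
    have hψN : ∀ z ∈ Z', ψ z ∈ normalizerIn S Q₁ := fun z hz =>
      hQ₁d ▸ hψ.mem_normalizer hQZ' hz (hZ'S hz).2
    have hf : Map F Z' (χ ∘ ψ) := hψ.comp hχ hψN
    have hfQ : im Q (χ ∘ ψ) = Q := by rw [(hψ.restrict hQZ').im_comp, ← hQ₁d, hχi]
    obtain ⟨k, hk, hkf, hkQ, hkH⟩ := exists_extend_hat c.pS c.sat hQ c.tClosed
      (fun x hx => c.cent_self hC ⟨hx.1, hx.2.2⟩) hQZ' hZ' hf hfQ
    obtain ⟨γ, hγ⟩ := L.ofMap Z' k hZ'S hk hkQ hkH
    have hle1 : centralizerIn S (im Z' ψ) ≤ normalizerIn S Q₁ := fun x hx =>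
      centralizerIn_le_normalizerIn (mem_centralizerIn.2
        ⟨hx.1, fun y hy => (mem_centralizerIn.1 hx).2 y (hQ₁Z hy)⟩)
    have hiψ : im Z' ψ ≤ normalizerIn S Q₁ := im_le_iff.2 hψN
    obtain ⟨Z₂, hZ₂⟩ : ∃ Z₂, Z₂ = im Z' (χ ∘ ψ) := ⟨_, rfl⟩
    haveI : Finite ↥(centralizerIn S Z₂) := finite_centralizerIn
    have h1 : Nat.card ↥(centralizerIn S (im Z' ψ)) ≤ Nat.card ↥(centralizerIn S Z₂) := by
      refine (hχ.restrict hle1).card_le fun x hx => ?_
      have := hχ.mem_centralizer hiψ (hle1 hx) (mem_centralizerIn.1 hx).2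
      rwa [← hψ.im_comp, ← hZ₂] at this
    have hQZ₂ : Q ≤ Z₂ := hZ₂ ▸ hfQ.ge.trans (im_mono hQZ')
    have hC₂N : centralizerIn S Z₂ ≤ normalizerIn S Q := fun x hx =>
      centralizerIn_le_normalizerIn (mem_centralizerIn.2
        ⟨hx.1, fun y hy => (mem_centralizerIn.1 hx).2 y (hQZ₂ hy)⟩)
    have hbnd : cj (imG ι (centralizerIn S Z₂)) γ⁻¹ ≤ C := by
      rw [hCd]
      rintro _ ⟨z, hz, rfl⟩
      obtain ⟨x, hx, rfl⟩ := (mem_imG hC₂N).1 hz
      refine Subgroup.mem_centralizer_iff.2 fun y hy => ?_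
      obtain ⟨r, hr, rfl⟩ := (mem_imG hZ'S).1 hy
      obtain ⟨hkN, hke⟩ := hγ r (Subgroup.mem_sup_left hr)
      have hcm : ue ι (k r) * ue ι x = ue ι x * ue ι (k r) := by
        rw [← ue_mul hkN (hC₂N hx), ← ue_mul (hC₂N hx) hkN, hkf r hr,
          (mem_centralizerIn.1 hx).2 _ (hZ₂ ▸ mem_im_of_mem hr)]
      rw [hke] at hcm
      show ue ι r * (γ⁻¹ * ue ι x * γ⁻¹⁻¹) = γ⁻¹ * ue ι x * γ⁻¹⁻¹ * ue ι r
      calc ue ι r * (γ⁻¹ * ue ι x * γ⁻¹⁻¹) = γ⁻¹ * (γ * ue ι r * γ⁻¹ * ue ι x) * γ := by group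
        _ = γ⁻¹ * (ue ι x * (γ * ue ι r * γ⁻¹)) * γ := by rw [hcm]
        _ = _ := by group
    refine h1.trans ?_
    have h2 := hMsyl.card_le (isPGroup_cj (hNp.to_le (Subgroup.map_le_range ι _)) γ⁻¹) hbnd
    rw [card_cj, hMd] at h2
    change Nat.card ↥((_ : Subgroup _).map ι) ≤ Nat.card ↥((_ : Subgroup _).map ι) at h2
    rw [Subgroup.card_map_of_injective L.inj, Subgroup.card_map_of_injective L.inj,
      Nat.card_congr (Subgroup.subgroupOfEquivOfLe hC₂N).toEquiv,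
      Nat.card_congr (Subgroup.subgroupOfEquivOfLe hCN).toEquiv] at h2
    exact h2
  -- the conjugate of `w` and its correction
  obtain ⟨u, hud⟩ : ∃ u, u = a * w * a⁻¹ := ⟨_, rfl⟩
  have hu : u ∈ W := hud ▸ K.normal.conj_mem w hw a
  have hun : u ∈ Subgroup.normalizer (imG ι Z' : Set G) := by
    rw [hG', ← cj_normalizer, hud]; exact conj_mem_cj hwn
  have huo : (orderOf u).Coprime p := by
    rw [hud, show a * w * a⁻¹ = MulAut.conj a w from rfl, MulEquiv.orderOf_eq]; exact hwo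
  obtain ⟨N', hN'⟩ : ∃ N', N' = Subgroup.normalizer (imG ι Z' : Set G) := ⟨_, rfl⟩
  obtain ⟨V, hV⟩ : ∃ V, V = W ⊓ N' := ⟨_, rfl⟩
  have hMN : M ≤ N' := hN' ▸ hMC.trans (hCd ▸ Subgroup.centralizer_le_normalizer _)
  have hMV : M ≤ Subgroup.normalizer (V : Set G) := fun m hm => hV ▸ normalizer_le_normalizer_inf
    (by rw [Subgroup.normalizer_eq_top]; trivial) (Subgroup.le_normalizer (hMN hm))
  have hN0 : M ⊔ V ≤ Subgroup.normalizer (((M ⊔ V) ⊓ C : Subgroup G) : Set G) := fun g hg =>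
    normalizer_le_normalizer_inf (Subgroup.le_normalizer hg)
      (hCd ▸ normalizer_le_normalizer_centralizer (hN' ▸ (sup_le hMN (hV ▸ inf_le_right) : M ⊔ V ≤ N') hg))
  have hMs : SylIn p M ((M ⊔ V) ⊓ C) := hMsyl.mono (le_inf le_sup_left hMC) inf_le_right
  have huV : u ∈ V := hV ▸ ⟨hu, hN' ▸ hun⟩
  obtain ⟨n, hn, hnu⟩ := frattini_conj hMs hN0 (Subgroup.mem_sup_right huV : u ∈ M ⊔ V)
  have hmem : n * u ∈ ((M ⊔ V : Subgroup G) : Set G) := Subgroup.mul_mem _ hn.1 (Subgroup.mem_sup_right huV)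
  rw [Subgroup.coe_mul_of_left_le_normalizer_right M V hMV] at hmem
  obtain ⟨m, hm, v, hv, hmv : m * v = n * u⟩ := hmem
  rw [hV] at hv
  have hvM : v ∈ Subgroup.normalizer (M : Set G) := by
    rw [show v = m⁻¹ * (n * u) by rw [← hmv]; group]
    exact Subgroup.mul_mem _ (Subgroup.inv_mem _ (Subgroup.le_normalizer hm)) hnu
  have hvu : ∀ z ∈ imG ι Z', v * z * v⁻¹ = u * z * u⁻¹ := fun z hz => by
    have h1 : u * z * u⁻¹ ∈ imG ι Z' := (Subgroup.mem_normalizer_iff.1 hun z).1 hz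
    have h2 : v * z * v⁻¹ ∈ imG ι Z' := (Subgroup.mem_normalizer_iff.1 (hN' ▸ hv.2) z).1 hz
    have e1 := Subgroup.mem_centralizer_iff.1 (hCd ▸ hn.2) _ h1
    have e2 := Subgroup.mem_centralizer_iff.1 (hCd ▸ hMC hm) _ h2
    calc v * z * v⁻¹ = m * (v * z * v⁻¹) * m⁻¹ := by rw [← e2]; group
      _ = (m * v) * z * (m * v)⁻¹ := by group
      _ = (n * u) * z * (n * u)⁻¹ := by rw [hmv]
      _ = n * (u * z * u⁻¹) * n⁻¹ := by group
      _ = u * z * u⁻¹ := by rw [← e1]; group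
  haveI : Finite ↥(Subgroup.normalizer (imG ι Z' : Set G)) := inferInstance
  obtain ⟨π, hπd⟩ : ∃ π, π = Subgroup.normalizerMonoidHom (imG ι Z') := ⟨_, rfl⟩
  have hπv : π ⟨v, hN' ▸ hv.2⟩ = π ⟨u, hun⟩ := by
    subst hπd
    ext z
    exact hvu z z.2
  obtain ⟨e, heo, hee⟩ := CLift.exists_pow_coprime π ⟨v, hN' ▸ hv.2⟩ (p := p)
    (hπv ▸ huo.coprime_dvd_left ((orderOf_map_dvd π _).trans (by rw [Subgroup.orderOf_mk])))
  obtain ⟨r, hrd⟩ : ∃ r, r = v ^ e := ⟨_, rfl⟩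
  have hro : (orderOf r).Coprime p := by
    rwa [← Subgroup.orderOf_coe, SubgroupClass.coe_pow, ← hrd] at heo
  have hrW : r ∈ W := hrd ▸ Subgroup.pow_mem _ hv.1 e
  have hrn : r ∈ Subgroup.normalizer (imG ι Z' : Set G) := hrd ▸ Subgroup.pow_mem _ (hN' ▸ hv.2) e
  have hrM : r ∈ Subgroup.normalizer (M : Set G) := hrd ▸ Subgroup.pow_mem _ hvM e
  have hru : ∀ z ∈ imG ι Z', r * z * r⁻¹ = u * z * u⁻¹ := fun z hz => by
    have h1 := congrArg (fun φ => ((φ ⟨z, hz⟩ : imG ι Z') : G)) (hee.trans hπv)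
    subst hπd
    rw [hrd]
    exact h1
  -- the admissible automorphism
  have hHN : hat S Z' ≤ normalizerIn S Q := sup_le hZ'S hCN
  have himH : imG ι (hat S Z') = imG ι Z' ⊔ M := by
    rw [hMd, imG, imG, imG, ← Subgroup.map_sup, Subgroup.subgroupOf_sup hZ'S hCN]
  have hrH : r ∈ Subgroup.normalizer (imG ι (hat S Z') : Set G) :=
    mem_normalizer_iff_cj.2 (by rw [himH, cj_sup, cj_eq_self hrn, cj_eq_self hrM])
  obtain ⟨β, hβ, hβe⟩ := L.exists_aut_act hHN hrH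
  have hact : Map F (Z' ⊔ hat S Q) (act ι r) := L.mapG _ hZ'S r fun x hx => act_spec hZ'S (L.cj_range hrn) hx
  have part : ∀ {T : Subgroup Ω} {E : FusionSystem T}, E.IsNormalIn F p → c.T ≤ T →
      Part E S Q (act ι r) → Part E S Z' (av β) := by
    intro T E hE hUT hpart
    obtain ⟨⟨-, -, hEi⟩, -⟩ := id hE
    have hT := hEi.2.1
    have hQT : Q ≤ T := hC.1.trans hUT
    have hTS := hT.1
    obtain ⟨Y, hY⟩ : ∃ Y, Y = Z' ⊔ hat T Q := ⟨_, rfl⟩
    have hTH : hat T Q ≤ normalizerIn S Q := (hat_sub hTS).trans (hat_le S hQS)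
    have hYN : Y ≤ normalizerIn T (hat T Q) := by
      rw [hY]
      refine sup_le (fun z hz => ⟨hUT (hZ'T hz), mem_normalizer_of_conj_mem ((hat_le_of hQT).trans hTS)
        fun y hy => ?_⟩) (le_normalizerIn (hat_le_of hQT))
      have h1 := hat_stable hT (L.act_hat hQS (ue ι z)) (L.act_im hQS _) y hy
      rwa [act_conj L.inj (hZ'S hz) (hTH hy)] at h1
    have hYS : Y ≤ normalizerIn S Q := hY ▸ sup_le hZ'S hTH
    have hTr : ∀ x ∈ hat T Q, act ι r x ∈ hat T Q := hat_stable hT (L.act_hat hQS r) (L.act_im hQS r)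
    have hYr : r ∈ Subgroup.normalizer (imG ι Y : Set G) := by
      refine mem_normalizer_of_cj_le ?_
      rw [hY, imG, Subgroup.subgroupOf_sup hZ'S hTH, Subgroup.map_sup, cj_sup]
      refine sup_le_sup (cj_eq_self hrn).le ?_
      rintro _ ⟨y, hy, rfl⟩
      obtain ⟨x, hx, rfl⟩ := (mem_imG hTH).1 hy
      show r * ue ι x * r⁻¹ ∈ imG ι (hat T Q)
      rw [← ue_act (L.hat_range hQS r (hat_sub hTS hx))]
      exact ue_mem_up hTH (hTr x hx)
    obtain ⟨βY, hβY, hβYe⟩ := L.exists_aut_act hYS hYr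
    have hle : hat T Q ≤ Y := hY ▸ le_sup_right
    have hmem := mem_sub_of_centric c.pS hE.1 (hat_centric c.pS c.sat hEi hQT (fc_fa_of_fn c.pS c.sat hQ).1)
      hle hYN hβY (L.coprime_of_act hYS hro hβYe hYr) (fun x hx => by rw [hβYe x (hle hx)]; exact hTr x hx)
      (hpart.1.congr fun x hx => (hβYe x (hle hx)).symm)
    haveI := finite_of_le hTS
    have hYZ : hat T Z' ≤ Y := by
      rw [hY]
      refine sup_le le_sup_left fun x hx => Subgroup.mem_sup_right (Subgroup.mem_sup_right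
        (mem_centralizerIn.2 ⟨hx.1, fun y hy => (mem_centralizerIn.1 hx).2 y (hQZ' hy)⟩))
    refine ⟨((map_of_mem_autGroup (hYN.trans inf_le_left) hmem).restrict hYZ).congr fun x hx => ?_,
      fun x hx => ?_⟩
    · rw [hβe x (hat_sub hTS hx), hβYe x (hYZ hx)]
    · rw [hβe x (Subgroup.mem_sup_right hx)]
      exact hpart.2 x (hCQ hx)
  have hZ'C : c.Cent Z' := c.cent_mono hC hQZ' hZ'T
  have hAdm : c.Adm Z' β := ⟨hβ, fun x hx => by
      rw [hβe x (Subgroup.mem_sup_left hx)]; exact L.act_normalizer hZ'S hrn hx,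
    L.coprime_of_act hHN hro hβe hrH, part c.n₁ c.le₁ (K.part₁ r hrW), part c.n₂ c.le₂ (K.part₂ r hrW)⟩
  obtain ⟨α, -, hα⟩ := L.exists_aut_act hZS hwn
  have hbr : cj (imG ι Z') a⁻¹ ≤ ι.range := by
    rw [hG', cj_cj_inv]; exact Subgroup.map_le_range ι _
  have hback : ∀ x ∈ Z, act ι a⁻¹ (act ι a x) = x := fun x hx => by
    rw [act_comp (act_spec hZS haZ hx), inv_mul_cancel, act_one L.inj (hZS hx)]
  refine ⟨α, Subgroup.subset_closure (Or.inr ⟨Z', hZ'C, hZ'c, β, hAdm, act ι a⁻¹, L.map_act hZ'S hbr, ?_,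
    fun y hy => ?_⟩), hα⟩
  · refine (L.map_act hZ'S hbr).im_eq (fun y hy => ?_) fun x hx => ⟨_, hZ'd ▸ mem_im_of_mem hx, hback x hx⟩
    obtain ⟨x, hx, rfl⟩ := (L.map_act hZS haZ).mem_im.1 (hZ'd ▸ hy : y ∈ im Z (act ι a))
    rw [hback x hx]; exact hx
  · obtain ⟨x, hx, rfl⟩ := (L.map_act hZS haZ).mem_im.1 (hZ'd ▸ hy : y ∈ im Z (act ι a))
    rw [hback x hx, hα x hx, hβe _ (Subgroup.mem_sup_left hy)]
    have hax : a * ue ι x * a⁻¹ ∈ imG ι Z' := hG' ▸ conj_mem_cj (ue_mem_up hZS hx)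
    have e1 : act ι r (act ι a x) = act ι a (act ι w x) := by
      refine ue_inj L.inj act_mem act_mem ?_
      rw [ue_act (g := r) (act_spec hZ'S (L.cj_range hrn) hy), ue_act (act_spec hZS haZ hx), hru _ hax,
        ue_act (act_spec hZS haZ (L.act_normalizer hZS hwn hx)), ue_act (act_spec hZS (L.cj_range hwn) hx), hud]
      group
    rw [e1, hback _ (L.act_normalizer hZS hwn hx)]

/-- Every element of the part normalizing `Z` induces a generator. -/
theorem gen_of_normalizer (hQ : F.IsFullyNormalized Q) (hC : c.Cent Q) (hQZ : Q ≤ Z)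
    (hZ : Z ≤ normalizerIn c.T Q) {w : G} (hw : w ∈ W) (hwn : w ∈ Subgroup.normalizer (imG ι Z : Set G)) :
    ∃ a ∈ c.Y Z, ∀ x ∈ Z, av a x = act ι w x := by
  have L := K.model
  haveI := L.finite
  have hZS := hZ.trans K.nT_le
  let H : Subgroup G :=
    { carrier := {g | g ∈ Subgroup.normalizer (imG ι Z : Set G) ∧ ∃ a ∈ c.Y Z, ∀ x ∈ Z, av a x = act ι g x}
      one_mem' := ⟨Subgroup.one_mem _, 1, Subgroup.one_mem _, fun x hx => by
        rw [av_one hx, act_one L.inj (hZS hx)]⟩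
      mul_mem' := by
        rintro g h ⟨hg, a, ha, hae⟩ ⟨hh, b, hb, hbe⟩
        refine ⟨Subgroup.mul_mem _ hg hh, a * b, Subgroup.mul_mem _ ha hb, fun x hx => ?_⟩
        rw [av_mul _ _ hx, hbe x hx, hae _ (L.act_normalizer hZS hh hx),
          act_comp (act_spec hZS (L.cj_range hh) hx)]
      inv_mem' := by
        rintro g ⟨hg, a, ha, hae⟩
        refine ⟨Subgroup.inv_mem _ hg, a⁻¹, Subgroup.inv_mem _ ha, fun x hx => ?_⟩
        have hg' := Subgroup.inv_mem _ hg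
        have hy : act ι g⁻¹ x ∈ Z := L.act_normalizer hZS hg' hx
        have h1 : av a (act ι g⁻¹ x) = x := by
          rw [hae _ hy, act_comp (act_spec hZS (L.cj_range hg') hx), mul_inv_cancel, act_one L.inj (hZS hx)]
        conv_lhs => rw [← h1, av_inv_av a hy] }
  suffices h : w ∈ H from h.2
  obtain ⟨k, r, hr, hord⟩ := Nat.exists_eq_pow_mul_and_not_dvd (orderOf_pos w).ne' p
    (Fact.out : p.Prime).ne_one
  have hro : r.Coprime p := ((Nat.Prime.coprime_iff_not_dvd Fact.out).2 hr).symm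
  have h1 : w ^ p ^ k ∈ H := ⟨Subgroup.pow_mem _ hwn _, K.gen_of_coprime hQ hC hQZ hZ (W.pow_mem hw _)
    (Subgroup.pow_mem _ hwn _) (hro.coprime_dvd_left (orderOf_dvd_of_pow_eq_one (by
      rw [← pow_mul, ← hord, pow_orderOf_eq_one])))⟩
  have h2 : w ^ r ∈ H := ⟨Subgroup.pow_mem _ hwn _, K.gen_of_pElement hQ hQZ hZ (W.pow_mem hw _)
    (Subgroup.pow_mem _ hwn _) (j := k) (by rw [← pow_mul, mul_comm, ← hord, pow_orderOf_eq_one])⟩
  have h3 : w ^ ((Nat.gcd (p ^ k) r : ℕ) : ℤ) ∈ H := by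
    rw [Nat.gcd_eq_gcd_ab, zpow_add, zpow_mul, zpow_mul, zpow_natCast, zpow_natCast]
    exact H.mul_mem (H.zpow_mem h1 _) (H.zpow_mem h2 _)
  rwa [(hro.symm.pow_left k).gcd_eq_one, Nat.cast_one, zpow_one] at h3

/-- A conjugate with the given image, carrying the normalizer in `N_T(Q)` into `N_T(Q)`. -/
theorem exists_toTop (hX : X ≤ normalizerIn c.T Q) {d : G} (hd : d ∈ W) {A : Subgroup G}
    (hA : cj (imG ι X) d = A)
    (hsyl : SylIn p (imG ι (normalizerIn c.T Q) ⊓ Subgroup.normalizer (A : Set G))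
      (W ⊓ Subgroup.normalizer (A : Set G))) :
    ∃ k ∈ W, cj (imG ι X) k = A ∧
      cj (imG ι (normalizerIn c.T Q) ⊓ Subgroup.normalizer (imG ι X : Set G)) k ≤
        imG ι (normalizerIn c.T Q) := by
  haveI := K.model.finite
  have hle : cj (imG ι (normalizerIn c.T Q) ⊓ Subgroup.normalizer (imG ι X : Set G)) d ≤
      W ⊓ Subgroup.normalizer (A : Set G) := by
    rw [cj_inf, cj_normalizer, hA]
    exact inf_le_inf_right _ ((cj_mono K.syl.le d).trans (cj_eq_self (Subgroup.le_normalizer hd)).le)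
  obtain ⟨b, hb, hble⟩ := hsyl.conj_le (isPGroup_cj K.syl.isPGroup.to_inf_left d) hle
  refine ⟨b * d, W.mul_mem hb.1 hd, ?_, ?_⟩
  · rw [← cj_cj, hA, cj_eq_self hb.2]
  · rw [← cj_cj]
    exact hble.trans inf_le_left

/-- The conjugations from the part of the model are generated maps. -/
theorem lmap_act (hQ : F.IsFullyNormalized Q) (hC : c.Cent Q) (hQZ : Q ≤ Z)
    (hZ : Z ≤ normalizerIn c.T Q) {w : G} (hw : w ∈ W)
    (hwZ : cj (imG ι Z) w ≤ imG ι (normalizerIn c.T Q)) : c.LMap Z (act ι w) := by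
  have L := K.model
  haveI := L.finite
  haveI : Finite ↥(normalizerIn c.T Q) := finite_of_le (inf_le_left.trans c.tS)
  suffices ∀ n, ∀ Z : Subgroup Ω, Nat.card ↥(normalizerIn c.T Q) - Nat.card Z = n → Q ≤ Z →
      Z ≤ normalizerIn c.T Q → ∀ w ∈ W, cj (imG ι Z) w ≤ imG ι (normalizerIn c.T Q) →
      c.LMap Z (act ι w) from this _ Z rfl hQZ hZ w hw hwZ
  clear hQZ hZ hw hwZ
  intro n
  induction n using Nat.strong_induction_on with
  | _ n ih =>
  intro Z hn hQZ hZ w hw hwZ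
  have hZS := hZ.trans K.nT_le
  have hNr : imG ι (normalizerIn c.T Q) ≤ ι.range := Subgroup.map_le_range ι _
  have hgen : ∀ X, Q ≤ X → X ≤ normalizerIn c.T Q → ∀ g ∈ W,
      g ∈ Subgroup.normalizer (imG ι X : Set G) → c.LMap X (act ι g) := by
    intro X hQX hX g hg hgn
    obtain ⟨a, ha, hae⟩ := K.gen_of_normalizer hQ hC hQX hX hg hgn
    exact (c.lmap_Y (c.cent_mono hC hQX (hX.trans inf_le_left)) ha).congr hae
  rcases eq_or_lt_of_le hZ with rfl | hlt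
  · exact hgen _ hQZ le_rfl w hw (mem_normalizer_of_cj_le hwZ)
  -- the common target
  obtain ⟨R, hR, hZR⟩ := exists_sylIn_ge (K.syl.isPGroup.to_le (Subgroup.map_mono (Subgroup.comap_mono hZ)))
    (le_inf ((Subgroup.map_mono (Subgroup.comap_mono hZ)).trans K.syl.le) Subgroup.le_normalizer :
      imG ι Z ≤ W ⊓ Subgroup.normalizer (imG ι Z : Set G))
  obtain ⟨a, ha, hale⟩ := K.syl.conj_le hR.isPGroup (hR.le.trans inf_le_left)
  obtain ⟨A, hAd⟩ : ∃ A, A = cj (imG ι Z) a := ⟨_, rfl⟩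
  have hAW : cj (W ⊓ Subgroup.normalizer (imG ι Z : Set G)) a = W ⊓ Subgroup.normalizer (A : Set G) := by
    rw [cj_inf, cj_normalizer, ← hAd, cj_eq_self (Subgroup.le_normalizer ha)]
  have hsyl : SylIn p (imG ι (normalizerIn c.T Q) ⊓ Subgroup.normalizer (A : Set G))
      (W ⊓ Subgroup.normalizer (A : Set G)) := by
    have h1 := hAW ▸ hR.cj a
    rwa [← h1.eq_of_le (K.syl.isPGroup.to_inf_left) (le_inf hale (h1.le.trans inf_le_right))
      (inf_le_inf_right _ K.syl.le)] at h1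
  have hwr : cj (imG ι Z) w ≤ ι.range := hwZ.trans hNr
  obtain ⟨hQZ', hZ'⟩ := K.im_between hQ hQZ hZ hwr
  have hG' := L.imG_im hZS hwr
  obtain ⟨k₁, hk₁, hk₁A, hk₁N⟩ := K.exists_toTop hZ ha hAd.symm hsyl
  obtain ⟨k₂, hk₂, hk₂A, hk₂N⟩ := K.exists_toTop hZ' (W.mul_mem ha (W.inv_mem hw))
    (show cj (imG ι (im Z (act ι w))) (a * w⁻¹) = A by rw [hG', cj_cj, inv_mul_cancel_right, hAd]) hsyl
  -- growth
  have hgrow : ∀ X, Q ≤ X → X < normalizerIn c.T Q → Nat.card X = Nat.card Z → ∀ k ∈ W,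
      cj (imG ι (normalizerIn c.T Q) ⊓ Subgroup.normalizer (imG ι X : Set G)) k ≤
        imG ι (normalizerIn c.T Q) → c.LMap X (act ι k) := by
    intro X hQX hX hcard k hk hkN
    have hXS := hX.le.trans K.nT_le
    obtain ⟨X₁, hX₁⟩ : ∃ X₁, X₁ = normalizerIn c.T Q ⊓ Subgroup.normalizer (X : Set Ω) := ⟨_, rfl⟩
    have hlt' : X < X₁ := hX₁ ▸ lt_inf_normalizer c.pS hX (inf_le_left.trans c.tS)
    have hX₁N : X₁ ≤ normalizerIn c.T Q := hX₁ ▸ inf_le_left
    refine (ih _ ?_ X₁ rfl (hQX.trans hlt'.le) hX₁N k hk ((cj_mono ?_ k).trans hkN)).restrict hlt'.le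
    · have h1 := card_lt_of_lt hlt' ((hX₁N.trans inf_le_left).trans c.tS)
      have h2 := Subgroup.card_le_of_le hX₁N
      omega
    · intro z hz
      obtain ⟨x, hx, rfl⟩ := (mem_imG (hX₁N.trans K.nT_le)).1 hz
      have hxn : x ∈ Subgroup.normalizer (X : Set Ω) := by rw [hX₁] at hx; exact hx.2
      have hxS := K.nT_le (hX₁N hx)
      refine ⟨ue_mem_up K.nT_le (hX₁N hx), mem_normalizer_of_cj_le ?_⟩
      rintro _ ⟨y, hy, rfl⟩
      obtain ⟨y, hy', rfl⟩ := (mem_imG hXS).1 hy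
      show ue ι x * ue ι y * (ue ι x)⁻¹ ∈ _
      rw [← ue_conj hxS (hXS hy')]
      exact ue_mem_up hXS (conj_mem_of_normalizer hxn hy')
  have hcard' := (L.map_act hZS hwr).card_im
  have hZ'lt : im Z (act ι w) < normalizerIn c.T Q := lt_of_le_of_ne hZ' fun e => by
    have := card_lt_of_lt hlt (inf_le_left.trans c.tS)
    rw [← hcard', e] at this
    exact lt_irrefl _ this
  have hL₁ := hgrow Z hQZ hlt rfl k₁ hk₁ hk₁N
  have hL₂ := hgrow _ hQZ' hZ'lt hcard' k₂ hk₂ hk₂N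
  have hk₁r : cj (imG ι Z) k₁ ≤ ι.range := by
    rw [hk₁A, ← hk₁A]
    exact (cj_mono (le_inf (Subgroup.map_mono (Subgroup.comap_mono hZ)) Subgroup.le_normalizer) k₁).trans
      (hk₁N.trans hNr)
  obtain ⟨hQA, hAN⟩ := K.im_between hQ hQZ hZ hk₁r
  have hAG := L.imG_im hZS hk₁r
  obtain ⟨g, hgd⟩ : ∃ g, g = k₂ * w * k₁⁻¹ := ⟨_, rfl⟩
  have hgW : g ∈ W := hgd ▸ W.mul_mem (W.mul_mem hk₂ hw) (W.inv_mem hk₁)
  have hgn : g ∈ Subgroup.normalizer (imG ι (im Z (act ι k₁)) : Set G) := by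
    refine mem_normalizer_iff_cj.2 ?_
    rw [hAG, cj_cj, hgd, inv_mul_cancel_right, ← cj_cj, ← hG', hk₂A, hk₁A]
  have hL₃ := hgen _ hQA hAN g hgW hgn
  obtain ⟨k', hk', hk'k, -, -⟩ := hL₂.exists_inv
  have hkey : ∀ x ∈ Z, act ι g (act ι k₁ x) = act ι k₂ (act ι w x) := fun x hx => by
    rw [act_comp (act_spec hZS hk₁r hx), act_comp (act_spec hZS hwr hx), hgd, inv_mul_cancel_right]
  refine ((hL₁.comp hL₃ fun x hx => mem_im_of_mem hx).comp hk' fun x hx => ?_).congr fun x hx => ?_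
  · show act ι g (act ι k₁ x) ∈ _
    rw [hkey x hx]
    exact mem_im_of_mem (mem_im_of_mem hx)
  · show k' (act ι g (act ι k₁ x)) = act ι w x
    rw [hkey x hx, hk'k _ (mem_im_of_mem hx)]

end Ctx.Key

end Cfsg.Agent.Local.FS.Meet
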