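import Cfsg.Agent.Lib.Local.FS.Meet.Part

/-!
Meets of normal subsystems: the generators and the system they generate.
-/

set_option autoImplicit false

namespace Cfsg.Agent.Local.FS.Meet

open Cfsg Cfsg.FusionSystem Cfsg.Agent.Fusion Cfsg.Agent.Local.FS

variable {Ω : Type*} [Group Ω] {S T₁ T₂ : Subgroup Ω} {F : FusionSystem S} {E₁ : FusionSystem T₁}
  {E₂ : FusionSystem T₂} {P Q R X : Subgroup Ω} {f g : Ω → Ω} {p : ℕ}

/-- Two normal subsystems. -/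
structure Ctx (F : FusionSystem S) (E₁ : FusionSystem T₁) (E₂ : FusionSystem T₂) (p : ℕ) : Prop where
  pS : IsPGroup p S
  sat : F.IsSaturated p
  n₁ : E₁.IsNormalIn F p
  n₂ : E₂.IsNormalIn F p

/-- The intersection of the bases. -/
abbrev Ctx.T (_c : Ctx F E₁ E₂ p) : Subgroup Ω := T₁ ⊓ T₂

/-- The automorphisms of `P C_S(P)` defining the intersection. -/
def Ctx.Adm (_c : Ctx F E₁ E₂ p) (P : Subgroup Ω) (β : MulAut ↥(hat S P)) : Prop :=
  β ∈ F.autGroup (hat S P) ∧ (∀ x ∈ P, av β x ∈ P) ∧ (orderOf β).Coprime p ∧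
    Part E₁ S P (av β) ∧ Part E₂ S P (av β)

variable (c : Ctx F E₁ E₂ p)
include c

theorem Ctx.i₁ : E₁.IsInvariantIn F := c.n₁.1.2.2

theorem Ctx.i₂ : E₂.IsInvariantIn F := c.n₂.1.2.2

theorem Ctx.t₁ : F.StronglyClosed T₁ := c.i₁.2.1

theorem Ctx.t₂ : F.StronglyClosed T₂ := c.i₂.2.1

theorem Ctx.tS : c.T ≤ S := inf_le_left.trans c.t₁.1

theorem Ctx.le₁ : c.T ≤ T₁ := inf_le_left

theorem Ctx.le₂ : c.T ≤ T₂ := inf_le_right

theorem Ctx.tClosed : F.StronglyClosed c.T :=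
  stronglyClosed_iff.2 ⟨c.tS, fun _ _ hP hf _ hx =>
    ⟨stronglyClosed_map c.t₁ hf hx (hP hx).1, stronglyClosed_map c.t₂ hf hx (hP hx).2⟩⟩

theorem Ctx.finT [Finite S] : Finite c.T := finite_of_le c.tS

theorem Ctx.pT : IsPGroup p c.T := c.pS.to_le c.tS

/-- Centric inside the intersection, for all conjugates in `F`. -/
def Ctx.Cent (P : Subgroup Ω) : Prop :=
  P ≤ c.T ∧ ∀ g, Map F P g → centralizerIn c.T (im P g) ≤ im P g

/-- Conjugations by elements of `T` carried by maps of `F`. -/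
def Ctx.conjGen (P : Subgroup Ω) : Set (MulAut P) :=
  {a | ∃ Q, Q ≤ c.T ∧ ∃ g, Map F Q g ∧ im Q g = P ∧ ∃ t ∈ c.T, t ∈ Subgroup.normalizer (Q : Set Ω) ∧
    ∀ x ∈ Q, av a (g x) = g (t * x * t⁻¹)}

/-- The transports of the admissible automorphisms. -/
def Ctx.admGen (P : Subgroup Ω) : Set (MulAut P) :=
  {a | ∃ X, c.Cent X ∧ F.IsFullyCentralized X ∧ ∃ β, c.Adm X β ∧
    ∃ g, Map F X g ∧ im X g = P ∧ ∀ x ∈ X, av a (g x) = g (av β x)}

/-- The generators. -/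
def Ctx.Y (P : Subgroup Ω) : Subgroup (MulAut P) := Subgroup.closure (c.conjGen P ∪ c.admGen P)

theorem Ctx.autT_le_Y (hP : P ≤ c.T) : autInducedBy c.T P ≤ c.Y P := by
  intro a ha
  obtain ⟨t, ht, h⟩ := mem_autInducedBy.1 ha
  exact Subgroup.subset_closure (Or.inl ⟨P, hP, id, map_id (hP.trans c.tS), im_id, t, ht,
    mem_normalizer_of_conj_aut h, h⟩)

theorem Ctx.cent_mono (hP : c.Cent P) (hPR : P ≤ R) (hR : R ≤ c.T) : c.Cent R :=
  ⟨hR, fun g hg _ hx => im_mono hPR (hP.2 g (hg.restrict hPR) (mem_centralizerIn.2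
    ⟨(mem_centralizerIn.1 hx).1, fun y hy => (mem_centralizerIn.1 hx).2 y (im_mono hPR hy)⟩))⟩

theorem Ctx.cent_im (hP : c.Cent P) (hf : Map F P f) : c.Cent (im P f) := by
  refine ⟨im_le_iff.2 fun x hx => stronglyClosed_map c.tClosed hf hx (hP.1 hx), fun g hg => ?_⟩
  rw [← hf.im_comp]
  exact hP.2 _ (hf.comp hg fun x hx => mem_im_of_mem hx)

theorem Ctx.cent_self (hP : c.Cent P) : centralizerIn c.T P ≤ P := by
  have := hP.2 id (map_id (hP.1.trans c.tS))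
  rwa [im_id] at this

theorem Ctx.good_top [Finite S] : c.Cent c.T := by
  refine ⟨le_rfl, fun g hg => ?_⟩
  haveI := c.finT
  rw [Subgroup.eq_of_le_of_card_ge (im_le_iff.2 fun x hx => stronglyClosed_map c.tClosed hg hx hx)
    hg.card_im.ge]
  exact inf_le_left

theorem Ctx.congr_Y (hf : Map F P f) (hi : im P f = R) {e : P ≃* R}
    (he : ∀ x : P, (e x : Ω) = f x) {a : MulAut P} (ha : a ∈ c.Y P) : MulAut.congr e a ∈ c.Y R := by
  subst hi
  refine Subgroup.mem_comap.1 ((Subgroup.map_le_iff_le_comap (f := (MulAut.congr e).toMonoidHom) (H := c.Y (im P f))).1 ?_ ha)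
  rw [Ctx.Y, MonoidHom.map_closure, Subgroup.closure_le]
  rintro _ ⟨a, (⟨Q, hQ, g, hg, hi, t, ht, htn, hat⟩ | ⟨X, hX, hXc, β, hβ, g, hg, hi, hag⟩), rfl⟩
  · subst hi
    refine Subgroup.subset_closure (Or.inl ⟨Q, hQ, f ∘ g, hg.comp hf fun x hx => mem_im_of_mem hx,
      hg.im_comp, t, ht, htn, fun x hx => ?_⟩)
    show av (MulAut.congr e a) (f (g x)) = f (g (t * x * t⁻¹))
    rw [av_congr_apply he a (mem_im_of_mem hx), hat x hx]
  · subst hi
    refine Subgroup.subset_closure (Or.inr ⟨X, hX, hXc, β, hβ, f ∘ g,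
      hg.comp hf fun x hx => mem_im_of_mem hx, hg.im_comp, fun x hx => ?_⟩)
    show av (MulAut.congr e a) (f (g x)) = f (g (av β x))
    rw [av_congr_apply he a (mem_im_of_mem hx), hag x hx]

theorem Ctx.map_Y (hP : P ≤ c.T) (hf : Map F P f) (hi : im P f = R) {e : P ≃* R}
    (he : ∀ x : P, (e x : Ω) = f x) : (c.Y P).map (MulAut.congr e).toMonoidHom = c.Y R := by
  refine le_antisymm ?_ fun b hb => ?_
  · rintro _ ⟨a, ha, rfl⟩; exact c.congr_Y hf hi he ha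
  · obtain ⟨k, hk, hkf, hfk, hki⟩ := hf.exists_inv
    rw [hi] at hk hki
    have he' : ∀ y : R, ((e.symm y : P) : Ω) = k y := fun y => by
      have h1 := hkf (e.symm y) (SetLike.coe_mem _)
      rw [← he, e.apply_symm_apply] at h1
      exact h1.symm
    refine ⟨_, c.congr_Y hk hki he' hb, ?_⟩
    ext x
    simp [MulAut.congr]

theorem Ctx.Y_conj [Finite S] (hP : P ≤ c.T) {α a : MulAut P} (hα : α ∈ F.autGroup P) (ha : a ∈ c.Y P) :
    α * a * α⁻¹ ∈ c.Y P := by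
  have := c.congr_Y (map_of_mem_autGroup (hP.trans c.tS) hα) (im_av α) (e := α)
    (fun x => (av_coe α x).symm) ha
  rwa [CLift.congr_self] at this

variable [Finite S] [Fact p.Prime]

/-- The generators lie in each normal subsystem whose base contains `T`. -/
theorem Ctx.Y_le_sub {T : Subgroup Ω} {E : FusionSystem T} (hE : E.IsInvariantIn F) (hUT : c.T ≤ T)
    (hpart : ∀ X β, c.Adm X β → Part E S X (av β)) : c.Y P ≤ E.autGroup P := by
  have hinv := (isInvariantIn_iff c.pS c.sat hE.1 hE.2.1).1 hE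
  refine (Subgroup.closure_le _).2 ?_
  rintro a (⟨Q, hQ, g, hg, rfl, t, ht, htn, hat⟩ | ⟨X, hX, -, β, hβ, g, hg, rfl, hag⟩)
  · obtain ⟨h, hh, hhg⟩ := hinv Q Q _ g le_rfl (hQ.trans hUT) (map_conjBy (hQ.trans hUT) (hUT ht))
      (fun x hx => conj_mem_of_normalizer htn hx) hg
    refine mem_autGroup_of_map (hh.congr fun y hy => ?_)
    obtain ⟨x, hx, rfl⟩ := hg.mem_im.1 hy
    rw [hhg x hx, hat x hx]
  · obtain ⟨h, hh, hhg⟩ := hinv X X (av β) g le_rfl (hX.1.trans hUT)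
      ((hpart X β hβ).1.restrict le_sup_left) hβ.2.1 hg
    refine mem_autGroup_of_map (hh.congr fun y hy => ?_)
    obtain ⟨x, hx, rfl⟩ := hg.mem_im.1 hy
    rw [hhg x hx, hag x hx]

theorem Ctx.Y_le₁ : c.Y P ≤ E₁.autGroup P := c.Y_le_sub c.i₁ c.le₁ fun _ _ h => h.2.2.2.1

theorem Ctx.Y_le₂ : c.Y P ≤ E₂.autGroup P := c.Y_le_sub c.i₂ c.le₂ fun _ _ h => h.2.2.2.2

theorem Ctx.Y_le_autGroup (hP : P ≤ c.T) : c.Y P ≤ F.autGroup P :=
  c.Y_le₁.trans (autGroup_sub_le c.i₁ (hP.trans c.le₁))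

/-! ### The generated maps -/

omit [Finite S] [Fact p.Prime] in
/-- The maps generated by conjugations by elements of `T` and the generators on the centric subgroups. -/
def Ctx.LMap (P : Subgroup Ω) (f : Ω → Ω) : Prop :=
  Map F P f ∧ P ≤ c.T ∧ ∀ K : Subgroup Ω → (Ω → Ω) → Prop, IsClosedClass F K →
    (∀ (Q : Subgroup Ω) (t : Ω), Q ≤ c.T → t ∈ c.T → K Q (fun x => t * x * t⁻¹)) →
    (∀ Q, c.Cent Q → ∀ a ∈ c.Y Q, K Q (av a)) → K P f

theorem Ctx.lmap_mem (h : c.LMap P f) {x : Ω} (hx : x ∈ P) : f x ∈ c.T :=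
  stronglyClosed_map c.tClosed h.1 hx (h.2.1 hx)

theorem Ctx.lmap_im_le (h : c.LMap P f) : im P f ≤ c.T := im_le_iff.2 fun _ hx => c.lmap_mem h hx

theorem Ctx.lmap_closed : IsClosedClass F c.LMap where
  congr := fun h he => ⟨h.1.congr he, h.2.1, fun K hK h1 h2 => hK.congr (h.2.2 K hK h1 h2) he⟩
  restrict := fun _ h hR => ⟨h.1.restrict hR, hR.trans h.2.1,
    fun K hK h1 h2 => hK.restrict h.1 (h.2.2 K hK h1 h2) hR⟩
  comp := fun _ _ h h' hm => ⟨h.1.comp h'.1 hm, h.2.1,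
    fun K hK h1 h2 => hK.comp h.1 h'.1 (h.2.2 K hK h1 h2) (h'.2.2 K hK h1 h2) hm⟩
  inv := by
    intro P f g hf h hg
    refine ⟨?_, c.lmap_im_le h, fun K hK h1 h2 => hK.inv hf (h.2.2 K hK h1 h2) hg⟩
    obtain ⟨k, hk, hkf, -, -⟩ := hf.exists_inv
    refine hk.congr fun y hy => ?_
    obtain ⟨x, hx, rfl⟩ := hf.mem_im.1 hy
    rw [hkf x hx, hg x hx]

variable {c}

theorem Ctx.LMap.congr (h : c.LMap P f) (he : ∀ x ∈ P, f x = g x) : c.LMap P g := c.lmap_closed.congr h he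

theorem Ctx.LMap.restrict (h : c.LMap P f) (hR : R ≤ P) : c.LMap R f := c.lmap_closed.restrict h.1 h hR

theorem Ctx.LMap.comp (h : c.LMap P f) (h' : c.LMap Q g) (hm : ∀ x ∈ P, f x ∈ Q) : c.LMap P (g ∘ f) :=
  c.lmap_closed.comp h.1 h'.1 h h' hm

theorem Ctx.LMap.exists_inv (h : c.LMap P f) :
    ∃ k, c.LMap (im P f) k ∧ (∀ x ∈ P, k (f x) = x) ∧ (∀ y ∈ im P f, f (k y) = y ∧ k y ∈ P) ∧
      im (im P f) k = P := by
  obtain ⟨k, hk, hkf, hfk, hki⟩ := h.1.exists_inv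
  exact ⟨k, c.lmap_closed.inv h.1 h hkf, hkf, hfk, hki⟩

variable (c)

theorem Ctx.lmap_conjBy (hP : P ≤ c.T) {t : Ω} (ht : t ∈ c.T) : c.LMap P (fun x => t * x * t⁻¹) :=
  ⟨map_conjBy (hP.trans c.tS) (c.tS ht), hP, fun _ _ h _ => h P t hP ht⟩

theorem Ctx.lmap_id (hP : P ≤ c.T) : c.LMap P id :=
  (c.lmap_conjBy hP c.T.one_mem).congr fun x _ => by simp

theorem Ctx.lmap_Y (hQ : c.Cent Q) {a : MulAut Q} (ha : a ∈ c.Y Q) : c.LMap Q (av a) :=
  ⟨map_of_mem_autGroup (hQ.1.trans c.tS) (c.Y_le_autGroup hQ.1 ha), hQ.1, fun _ _ _ h => h Q hQ a ha⟩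

/-- The generated maps lie in any subsystem of `F` containing the generators. -/
theorem Ctx.lmap_sub {T : Subgroup Ω} {E : FusionSystem T} (hUT : c.T ≤ T) (hTS : T ≤ S)
    (hY : ∀ P, c.Y P ≤ E.autGroup P) (h : c.LMap P f) : Map E P f := by
  haveI := finite_of_le hTS
  refine h.2.2 (fun P f => Map E P f) ⟨fun h he => h.congr he, fun _ h hR => h.restrict hR,
    fun _ _ h h' hm => h.comp h' hm, fun {P f g} _ h hg => ?_⟩ (fun Q t hQ ht => map_conjBy (hQ.trans hUT) (hUT ht))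
    fun Q hQ a ha => map_of_mem_autGroup (hQ.1.trans hUT) (hY Q ha)
  obtain ⟨k, hk, hkf, -, -⟩ := h.exists_inv
  refine hk.congr fun y hy => ?_
  obtain ⟨x, hx, rfl⟩ := h.mem_im.1 hy
  rw [hkf x hx, hg x hx]

theorem Ctx.lmap₁ (h : c.LMap P f) : Map E₁ P f := c.lmap_sub c.le₁ c.t₁.1 (fun _ => c.Y_le₁) h

theorem Ctx.lmap₂ (h : c.LMap P f) : Map E₂ P f := c.lmap_sub c.le₂ c.t₂.1 (fun _ => c.Y_le₂) h

/-- The meet of the two subsystems. -/
def Ctx.sys : FusionSystem c.T where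
  Hom P := {φ | φ ∈ F.Hom P ∧ c.LMap P (fn φ)}
  le_of_mem {P φ} hφ := ⟨hφ.2.2.1, fun x => by rw [← fn_coe φ x]; exact c.lmap_mem hφ.2 x.2⟩
  injective_of_mem hφ := F.injective_of_mem hφ.1
  conj_mem {P g} hP hg := ⟨F.conj_mem (hP.trans c.tS) (c.tS hg),
    (c.lmap_conjBy hP hg).congr fun x hx => by rw [fn_apply (conjHom P g) hx]; rfl⟩
  comp_mem {P Q φ ψ} hφ hψ hm := ⟨F.comp_mem hφ.1 hψ.1 hm,
    (hφ.2.comp hψ.2 fun x hx => by rw [fn_apply φ hx]; exact hm _).congr fun x hx => by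
      show fn ψ (fn φ x) = _
      rw [fn_apply φ hx, fn_apply ψ (hm _), fn_apply _ hx]; rfl⟩
  inv_mem {P φ} hφ := by
    obtain ⟨ψ, hψ, hψφ⟩ := F.inv_mem hφ.1
    refine ⟨ψ, ⟨hψ, ?_⟩, hψφ⟩
    have key : c.LMap (im P (fn φ)) (fn ψ) := c.lmap_closed.inv hφ.2.1 hφ.2 fun x hx => by
      rw [fn_apply φ hx, fn_apply ψ ⟨⟨x, hx⟩, rfl⟩, hψφ ⟨x, hx⟩]
    rwa [(map_of_mem hφ.1).im_eq_range fun x => (fn_coe φ x).symm] at key

theorem Ctx.map_sys : Map c.sys P f ↔ c.LMap P f := by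
  constructor
  · rintro ⟨φ, hφ, he⟩
    exact hφ.2.congr fun x hx => by rw [fn_apply φ hx]; exact he ⟨x, hx⟩
  · intro hf
    obtain ⟨φ, hφ, he⟩ := hf.1
    exact ⟨φ, ⟨hφ, hf.congr fun x hx => by rw [fn_apply φ hx]; exact (he ⟨x, hx⟩).symm⟩, he⟩

theorem Ctx.sys_sub : c.sys.IsSubsystemOf F := fun _ _ hφ => hφ.1

theorem Ctx.mem_autSys (hP : P ≤ c.T) {a : MulAut P} : a ∈ c.sys.autGroup P ↔ c.LMap P (av a) := by
  haveI := c.finT
  rw [mem_autGroup_iff hP, c.map_sys]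

/-- Automorphisms of `T` carry generated maps to generated maps. -/
theorem Ctx.transport {α : MulAut c.T} (hα : α ∈ F.autGroup c.T) (hf : c.LMap P f) :
    ∃ k, c.LMap (im P (av α)) k ∧ ∀ x ∈ P, k (av α x) = av α (f x) := by
  haveI := c.finT
  have hαm : Map F c.T (av α) := map_of_mem_autGroup c.tS hα
  let K : Subgroup Ω → (Ω → Ω) → Prop := fun P f =>
    c.LMap P f ∧ ∃ k, c.LMap (im P (av α)) k ∧ ∀ x ∈ P, k (av α x) = av α (f x)
  obtain ⟨-, -, hgen⟩ := id hf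
  refine (hgen K ⟨?_, ?_, ?_, ?_⟩ ?_ ?_).2
  · rintro P f g ⟨hf, k, hk, hke⟩ he
    exact ⟨hf.congr he, k, hk, fun x hx => he x hx ▸ hke x hx⟩
  · rintro P R f - ⟨hf, k, hk, hke⟩ hR
    exact ⟨hf.restrict hR, k, hk.restrict (im_mono hR), fun x hx => hke x (hR hx)⟩
  · rintro P Q f g - - ⟨hf, k, hk, hke⟩ ⟨hg, k', hk', hke'⟩ hm
    refine ⟨hf.comp hg hm, k' ∘ k, hk.comp hk' fun y hy => ?_, fun x hx => ?_⟩
    · obtain ⟨x, hx, rfl⟩ := (hαm.restrict hf.2.1).mem_im.1 hy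
      rw [hke x hx]
      exact mem_im_of_mem (hm x hx)
    · show k' (k (av α x)) = av α (g (f x))
      rw [hke x hx, hke' _ (hm x hx)]
  · rintro P f g hfm ⟨hf, k, hk, hke⟩ hinv
    obtain ⟨k', hk', hk'k, -, -⟩ := hk.exists_inv
    have hi : im (im P (av α)) k = im (im P f) (av α) := by
      rw [← hfm.im_comp, ← (hαm.restrict hf.2.1).im_comp]
      exact im_congr hke
    rw [hi] at hk'
    refine ⟨c.lmap_closed.inv hfm hf hinv, k', hk', fun y hy => ?_⟩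
    obtain ⟨x, hx, rfl⟩ := hfm.mem_im.1 hy
    rw [hinv x hx, ← hke x hx, hk'k _ (mem_im_of_mem hx)]
  · intro P t hP ht
    refine ⟨c.lmap_conjBy hP ht, _, c.lmap_conjBy (im_le_iff.2 fun x hx => av_mem α (hP hx))
      (av_mem α ht), fun x hx => ?_⟩
    show av α t * av α x * (av α t)⁻¹ = av α (t * x * t⁻¹)
    rw [hαm.map_conj ht (hP hx)]
  · intro P hP a ha
    have hαP := hαm.restrict hP.1
    obtain ⟨e, he⟩ := exists_equiv hαP rfl
    exact ⟨c.lmap_Y hP ha, _, c.lmap_Y (c.cent_im hP hαP) (c.congr_Y hαP rfl he ha),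
      fun x hx => av_congr_apply he a hx⟩

end Cfsg.Agent.Local.FS.Meet
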