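import Cfsg.Agent.Lib.Local.FS.Meet.Move

/-!
Meets of normal subsystems: every map between subgroups of the intersection is a generated map followed by an
automorphism of the intersection.
-/

set_option autoImplicit false

namespace Cfsg.Agent.Local.FS.Meet

open Cfsg Cfsg.FusionSystem Cfsg.Agent.Fusion Cfsg.Agent.Local.FS

universe u

variable {Ω : Type u} [Group Ω] {S T₁ T₂ : Subgroup Ω} {F : FusionSystem S} {E₁ : FusionSystem T₁}
  {E₂ : FusionSystem T₂} {P Q R X : Subgroup Ω} {f g : Ω → Ω} {p : ℕ}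
  [Finite S] [Fact p.Prime] (c : Ctx F E₁ E₂ p)
include c

/-- An automorphism of `T` after a generated map. -/
def Ctx.Dec (P : Subgroup Ω) (f : Ω → Ω) : Prop :=
  ∃ α ∈ F.autGroup c.T, ∃ e, c.LMap P e ∧ ∀ x ∈ P, f x = av α (e x)

variable {c}

theorem Ctx.Dec.restrict (h : c.Dec P f) (hR : R ≤ P) : c.Dec R f :=
  let ⟨α, hα, e, he, hf⟩ := h; ⟨α, hα, e, he.restrict hR, fun x hx => hf x (hR hx)⟩

theorem Ctx.Dec.congr (h : c.Dec P f) (hfg : ∀ x ∈ P, f x = g x) : c.Dec P g :=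
  let ⟨α, hα, e, he, hf⟩ := h; ⟨α, hα, e, he, fun x hx => (hfg x hx).symm.trans (hf x hx)⟩

theorem Ctx.Dec.comp (h : c.Dec P f) (h' : c.Dec Q g) (hm : ∀ x ∈ P, f x ∈ Q) : c.Dec P (g ∘ f) := by
  obtain ⟨α, hα, e, he, hf⟩ := h
  obtain ⟨β, hβ, d, hd, hg⟩ := h'
  obtain ⟨k, hk, hkd⟩ := c.transport (inv_mem hα) hd
  have hef : ∀ x ∈ P, e x = av α⁻¹ (f x) := fun x hx => by rw [hf x hx, av_inv_av α (c.lmap_mem he hx)]
  refine ⟨β * α, mul_mem hβ hα, k ∘ e, he.comp hk fun x hx => ?_, fun x hx => ?_⟩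
  · rw [hef x hx]; exact mem_im_of_mem (hm x hx)
  · have hdT := c.lmap_mem hd (hm x hx)
    show g (f x) = av (β * α) (k (e x))
    rw [hef x hx, hkd _ (hm x hx), av_mul _ _ (av_mem _ hdT), av_av_inv α hdT, hg _ (hm x hx)]

theorem Ctx.Dec.inv (h : c.Dec P f) (hi : ∀ x ∈ P, g (f x) = x) : c.Dec (im P f) g := by
  haveI := c.finT
  obtain ⟨α, hα, e, he, hf⟩ := h
  obtain ⟨d, hd, hde, -, -⟩ := he.exists_inv
  obtain ⟨k, hk, hkd⟩ := c.transport hα hd
  have him : im (im P e) (av α) = im P f := by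
    rw [← he.1.im_comp]
    exact im_congr fun x hx => (hf x hx).symm
  rw [him] at hk
  refine ⟨α⁻¹, inv_mem hα, k, hk, fun y hy => ?_⟩
  obtain ⟨z, hz, rfl⟩ := ((map_of_mem_autGroup c.tS hα).restrict (c.lmap_im_le he)).mem_im.1 (him.ge hy)
  obtain ⟨x, hx, rfl⟩ := he.1.mem_im.1 hz
  rw [hkd _ hz, hde x hx, av_inv_av α (he.2.1 hx), ← hf x hx, hi x hx]

variable (c)

theorem Ctx.dec_aut {α : MulAut c.T} (hα : α ∈ F.autGroup c.T) (hP : P ≤ c.T) : c.Dec P (av α) :=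
  ⟨α, hα, id, c.lmap_id hP, fun _ _ => rfl⟩

theorem Ctx.dec_lmap (hf : c.LMap P f) : c.Dec P f :=
  ⟨1, one_mem _, f, hf, fun x hx => (av_one (c.lmap_mem hf hx)).symm⟩

theorem Ctx.norm_map (hP : P ≤ c.T) {k : Ω → Ω} (hk : Map F R k) (hPR : P ≤ R)
    (hR : R ≤ normalizerIn S P) {x : Ω} (hx : x ∈ R) (hxT : x ∈ c.T) :
    k x ∈ normalizerIn c.T (im P k) :=
  ⟨stronglyClosed_map c.tClosed hk hx hxT, (hk.mem_normalizer hPR hx (hR hx).2).2⟩

/-- **Every map between subgroups of the intersection decomposes.** -/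
theorem Ctx.dec_all : ∀ (P : Subgroup Ω) (f : Ω → Ω), P ≤ c.T → Map F P f → c.Dec P f := by
  haveI := c.finT
  suffices ∀ n, ∀ (P : Subgroup Ω) (f : Ω → Ω), Nat.card c.T - Nat.card P = n → P ≤ c.T →
      Map F P f → c.Dec P f from fun P f hP hf => this _ P f rfl hP hf
  intro n
  induction n using Nat.strong_induction_on with
  | _ n ih =>
  intro P f hn hPT hf
  rcases eq_or_lt_of_le hPT with hPe | hlt
  · subst hPe
    obtain ⟨α, hα, hαf⟩ := exists_aut hf (Subgroup.eq_of_le_of_card_ge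
      (im_le_iff.2 fun x hx => stronglyClosed_map c.tClosed hf hx hx) hf.card_im.ge)
    exact (c.dec_aut hα le_rfl).congr hαf
  have hfT : im P f ≤ c.T := im_le_iff.2 fun x hx => stronglyClosed_map c.tClosed hf hx (hPT hx)
  have hcard : ∀ X, X ≤ c.T → Nat.card X = Nat.card P → X < c.T := fun X hX he =>
    lt_of_le_of_ne hX fun h => by
      have := card_lt_of_lt hlt c.tS
      rw [← he, h] at this
      exact lt_irrefl _ this
  have hbig : ∀ (X Y : Subgroup Ω) (k : Ω → Ω), Nat.card X = Nat.card P → X < Y → Y ≤ c.T →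
      Map F Y k → c.Dec X k := fun X Y k hX hXY hY hk => by
    refine (ih _ ?_ Y k rfl hY hk).restrict hXY.le
    have h1 := card_lt_of_lt hXY (hY.trans c.tS)
    have h2 := Subgroup.card_le_of_le hY
    omega
  have hup : ∀ (X : Subgroup Ω) (k : Ω → Ω), X ≤ c.T → Nat.card X = Nat.card P →
      Map F (normalizerIn S X) k → c.Dec X k := fun X k hXT hX hk =>
    hbig X _ k hX (lt_normalizerIn c.pT (hcard X hXT hX)) inf_le_left
      (hk.restrict (inf_le_inf_right _ c.tS))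
  obtain ⟨Q, hPQ, hQ⟩ := exists_fullyNormalized (F := F) hf.le
  obtain ⟨u, hu, -, hui⟩ := exists_map_normalizer_fn c.pS c.sat hQ hPQ
  have hRQ : F.IsConj (im P f) Q := isConj_trans (isConj_symm (isConj_iff.2 ⟨f, hf, rfl⟩)) hPQ
  obtain ⟨v, hv, -, hvi⟩ := exists_map_normalizer_fn c.pS c.sat hQ hRQ
  have hPS := hPT.trans c.tS
  have huP := hu.restrict (le_normalizerIn hPS)
  have hvR := hv.restrict (le_normalizerIn (hfT.trans c.tS))
  have hQT : Q ≤ c.T := hui ▸ im_le_iff.2 fun x hx => stronglyClosed_map c.tClosed huP hx (hPT hx)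
  have hQc : Nat.card Q = Nat.card P := hui ▸ huP.card_im
  have hQlt := hcard Q hQT hQc
  have hQS := hQ.1
  -- the automorphism of `Q`
  obtain ⟨u', hu', hu'u, huu', hu'i⟩ := huP.exists_inv
  rw [hui] at hu' huu' hu'i
  have hfu : Map F Q (f ∘ u') := hu'.comp hf fun y hy => (huu' y hy).2
  have hmem : ∀ y ∈ Q, (f ∘ u') y ∈ im P f := fun y hy => mem_im_of_mem (huu' y hy).2
  have hm : Map F Q (v ∘ (f ∘ u')) := hfu.comp hvR hmem
  have hi : im Q (v ∘ (f ∘ u')) = Q := by rw [hfu.im_comp, hu'.im_comp, hu'i, hvi]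
  obtain ⟨γ, hγ, hγe⟩ := exists_aut hm hi
  have hγD : c.Dec Q (av γ) := by
    by_cases hC : c.Cent Q
    · haveI := mulAut_finite_of_le hQS
      obtain ⟨y, hy, hyn⟩ := frattini_conj (c.fa_Y_fn hQ hC) (fun a ha =>
        Subgroup.mem_normalizer_iff.2 fun b => ⟨c.Y_conj hQT ha, fun hb => by
          simpa [mul_assoc] using c.Y_conj hQT (inv_mem ha) hb⟩) hγ
      obtain ⟨γ₁, hγ₁d⟩ : ∃ γ₁, γ₁ = y * γ := ⟨_, rfl⟩
      rw [← hγ₁d] at hyn
      have hγ₁ : γ₁ ∈ F.autGroup Q := hγ₁d ▸ mul_mem (c.Y_le_autGroup hQT hy) hγ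
      have hm₁ := map_of_mem_autGroup hQS hγ₁
      obtain ⟨k, hk, hkγ⟩ := (receptive_iff.1
        (receptive_of_fc c.pS c.sat (fc_fa_of_fn c.pS c.sat hQ).1)).2 Q _ hm₁ (im_av γ₁)
      have hle : normalizerIn c.T Q ≤ Nf S Q (av γ₁) := by
        rintro t ⟨ht, htn⟩
        obtain ⟨a, ha, haT⟩ := exists_aut_conj (P := Q) htn
        obtain ⟨h, hh, hhe⟩ := mem_autInducedBy.1
          ((Subgroup.mem_normalizer_iff.1 hyn a).1 (haT c.T ht))
        refine mem_Nf.2 ⟨c.tS ht, htn, h, c.tS hh, fun x hx => ?_⟩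
        have h1 := hhe _ (av_mem γ₁ hx)
        rwa [av_mul _ _ (av_mem γ₁ hx), av_inv_av γ₁ hx, av_mul _ _ hx, ha x hx] at h1
      have h1 : c.Dec Q (av γ₁) := (hbig Q _ k hQc (lt_normalizerIn c.pT hQlt) inf_le_left
        (hk.restrict hle)).congr hkγ
      have h2 : c.Dec Q (av y⁻¹) := c.dec_lmap (c.lmap_Y hC (inv_mem hy))
      refine (h1.comp h2 fun x hx => av_mem γ₁ hx).congr fun x hx => ?_
      show av y⁻¹ (av γ₁ x) = av γ x
      rw [← av_mul _ _ hx, hγ₁d, inv_mul_cancel_left]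
    · have hne : ¬ centralizerIn c.T Q ≤ Q := by
        intro hle
        refine hC ⟨hQT, fun g hg => ?_⟩
        obtain ⟨h, hh, hhg, hgh, hhi⟩ := hg.exists_inv
        obtain ⟨k, hk, hkh⟩ := (receptive_iff.1
          (receptive_of_fc c.pS c.sat (fc_fa_of_fn c.pS c.sat hQ).1)).2 _ h hh hhi
        have hsub : centralizerIn c.T (im Q g) ≤ Nf S (im Q g) h :=
          (inf_le_inf_right _ c.tS).trans centralizerIn_le_Nf
        have hmap : ∀ z ∈ centralizerIn c.T (im Q g), k z ∈ centralizerIn c.T Q := fun z hz => by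
          refine ⟨stronglyClosed_map c.tClosed hk (hsub hz) hz.1, ?_⟩
          have := hk.mem_centralizer (le_Nf hh) (hsub hz) (mem_centralizerIn.1 hz).2
          rw [im_congr hkh, hhi] at this
          exact this.2
        intro z hz
        have h1 : k z ∈ Q := hle (hmap z hz)
        obtain ⟨w, hw, hwe⟩ : ∃ w ∈ im Q g, k w = k z := ⟨g (k z), mem_im_of_mem h1, by
          rw [hkh _ (mem_im_of_mem h1), hhg _ h1]⟩
        exact hk.injOn (le_Nf hh hw) (hsub hz) hwe ▸ hw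
      have hlt' : Q < hat c.T Q := lt_of_le_of_ne le_sup_left fun he =>
        hne (le_sup_right.trans he.ge)
      have hmγ := map_of_mem_autGroup hQS hγ
      obtain ⟨k, hk, hkγ⟩ := (receptive_iff.1
        (receptive_of_fc c.pS c.sat (fc_fa_of_fn c.pS c.sat hQ).1)).2 Q _ hmγ (im_av γ)
      exact (hbig Q _ k hQc hlt' (hat_le_of hQT) (hk.restrict (sup_le (le_Nf hmγ)
        ((inf_le_inf_right _ c.tS).trans centralizerIn_le_Nf)))).congr hkγ
  obtain ⟨v', -, hv'v, -, -⟩ := hvR.exists_inv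
  have huD : c.Dec P u := hup P u hPT rfl hu
  have hvD : c.Dec (im P f) v := hup _ v hfT hf.card_im hv
  have hv'D : c.Dec Q v' := hvi ▸ hvD.inv hv'v
  have humem : ∀ x ∈ P, u x ∈ Q := fun x hx => hui.le (mem_im_of_mem hx)
  refine ((huD.comp hγD humem).comp hv'D fun x hx => av_mem γ (humem x hx)).congr fun x hx => ?_
  show v' (av γ (u x)) = f x
  rw [hγe _ (humem x hx)]
  show v' (v (f (u' (u x)))) = f x
  rw [hu'u x hx, hv'v _ (mem_im_of_mem hx)]

/-- Centric subgroups whose image under some automorphism of `T` is fully normalized. -/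
def Ctx.Good (X : Subgroup Ω) : Prop :=
  c.Cent X ∧ ∃ α ∈ F.autGroup c.T, F.IsFullyNormalized (im X (av α))

theorem Ctx.good_T : c.Good c.T := by
  haveI := c.finT
  refine ⟨c.good_top, 1, one_mem _, ?_⟩
  rw [im_av]
  refine ⟨c.tS, fun Q hQ => ?_⟩
  rw [eq_of_isConj_stronglyClosed c.tClosed hQ]

theorem Ctx.im_norm {α : MulAut c.T} (hα : α ∈ F.autGroup c.T) (hX : X ≤ c.T) {x : Ω}
    (hx : x ∈ normalizerIn c.T X) : av α x ∈ normalizerIn c.T (im X (av α)) :=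
  ⟨av_mem α hx.1, ((map_of_mem_autGroup c.tS hα).mem_normalizer hX hx.1 hx.2).2⟩

theorem Ctx.good_bound (hQ : c.Good Q) (hR : F.IsConj Q R) :
    Nat.card ↥(normalizerIn c.T R) ≤ Nat.card ↥(normalizerIn c.T Q) := by
  haveI := c.finT
  obtain ⟨hQc, α, hα, hfn⟩ := hQ
  obtain ⟨Q₀, hQ₀⟩ : ∃ Q₀, Q₀ = im Q (av α) := ⟨_, rfl⟩
  rw [← hQ₀] at hfn
  have hαm := map_of_mem_autGroup c.tS hα
  have hαi := map_of_mem_autGroup c.tS (inv_mem hα)
  haveI : Finite ↥(normalizerIn c.T Q) := finite_of_le (inf_le_left.trans c.tS)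
  haveI : Finite ↥(normalizerIn c.T Q₀) := finite_of_le (inf_le_left.trans c.tS)
  obtain ⟨χ, hχ, -, hχi⟩ := exists_map_normalizer_fn c.pS c.sat hfn
    (isConj_trans (isConj_symm hR) (isConj_iff.2 ⟨_, hαm.restrict hQc.1, hQ₀.symm⟩))
  have hRT : R ≤ c.T := by
    obtain ⟨g, hg, rfl⟩ := isConj_iff.1 hR
    exact im_le_iff.2 fun x hx => stronglyClosed_map c.tClosed hg hx (hQc.1 hx)
  have hle : normalizerIn c.T R ≤ normalizerIn S R := inf_le_inf_right _ c.tS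
  have h1 : Nat.card ↥(normalizerIn c.T R) ≤ Nat.card ↥(normalizerIn c.T Q₀) :=
    (hχ.restrict hle).card_le fun x hx => by
      have := c.norm_map hRT hχ (le_normalizerIn (hRT.trans c.tS)) le_rfl (hle hx) hx.1
      rwa [hχi] at this
  have h2 : Nat.card ↥(normalizerIn c.T Q₀) ≤ Nat.card ↥(normalizerIn c.T Q) :=
    (hαi.restrict (inf_le_left : normalizerIn c.T Q₀ ≤ c.T)).card_le fun x hx => by
      have := c.im_norm (inv_mem hα) (hQ₀ ▸ im_le_iff.2 fun y hy => av_mem α (hQc.1 hy) : Q₀ ≤ c.T) hx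
      rwa [hQ₀, ← (hαm.restrict hQc.1).im_comp,
        im_congr (f := av α⁻¹ ∘ av α) (g := id) fun y hy => av_inv_av α (hQc.1 hy), im_id] at this
  exact h1.trans h2

theorem Ctx.exists_toGood (hX : c.Cent X) : ∃ Q e, c.Good Q ∧ c.LMap (normalizerIn c.T X) e ∧
    im X e = Q ∧ ∀ x ∈ normalizerIn c.T X, e x ∈ normalizerIn c.T Q := by
  have hXT := hX.1
  have hXS := hXT.trans c.tS
  obtain ⟨Q₀, hXQ, hQ₀⟩ := exists_fullyNormalized (F := F) hXS
  obtain ⟨u, hu, -, hui⟩ := exists_map_normalizer_fn c.pS c.sat hQ₀ hXQ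
  obtain ⟨α, hα, e, he, hue⟩ := c.dec_all _ u inf_le_left
    (hu.restrict (inf_le_inf_right _ c.tS : normalizerIn c.T X ≤ normalizerIn S X))
  have hXN : X ≤ normalizerIn c.T X := le_normalizerIn hXT
  refine ⟨im X e, e, ⟨c.cent_im hX (he.1.restrict hXN), α, hα, ?_⟩, he, rfl, fun x hx =>
    ⟨c.lmap_mem he hx, (he.1.mem_normalizer hXN hx hx.2).2⟩⟩
  rwa [← (he.1.restrict hXN).im_comp, ← im_congr (f := u) (g := av α ∘ e) fun x hx => hue x (hXN hx), hui]

/-- `Aut_T(Q)` is Sylow in the generators at a good subgroup. -/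
theorem Ctx.fa_Y (hQ : c.Good Q) : SylIn p (autInducedBy c.T Q) (c.Y Q) := by
  haveI := c.finT
  obtain ⟨hQc, α, hα, hfn⟩ := hQ
  haveI := mulAut_finite_of_le (hQc.1.trans c.tS)
  have hαm := map_of_mem_autGroup c.tS hα
  have hαi := map_of_mem_autGroup c.tS (inv_mem hα)
  obtain ⟨Q₀, hQ₀⟩ : ∃ Q₀, Q₀ = im Q (av α) := ⟨_, rfl⟩
  rw [← hQ₀] at hfn
  have hQ₀T : Q₀ ≤ c.T := hQ₀ ▸ im_le_iff.2 fun y hy => av_mem α (hQc.1 hy)
  have hback : im Q₀ (av α⁻¹) = Q := by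
    rw [hQ₀, ← (hαm.restrict hQc.1).im_comp,
      im_congr (f := av α⁻¹ ∘ av α) (g := id) fun y hy => av_inv_av α (hQc.1 hy), im_id]
  obtain ⟨e, he⟩ := exists_equiv (hαi.restrict hQ₀T) hback
  have h1 := sylIn_map_hom (MulAut.congr e).toMonoidHom
    (c.fa_Y_fn hfn (hQ₀ ▸ c.cent_im hQc (hαm.restrict hQc.1)))
  rw [c.map_Y hQ₀T (hαi.restrict hQ₀T) hback he] at h1
  have h2 : (autInducedBy c.T Q₀).map (MulAut.congr e).toMonoidHom ≤ autInducedBy c.T Q := by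
    rintro _ ⟨a, ha, rfl⟩
    obtain ⟨t, ht, hta⟩ := mem_autInducedBy.1 ha
    refine mem_autInducedBy.2 ⟨av α⁻¹ t, av_mem _ ht, fun y hy => ?_⟩
    obtain ⟨x, hx, rfl⟩ := (hαi.restrict hQ₀T).mem_im.1 (hback.ge hy)
    show av (MulAut.congr e a) _ = _
    rw [av_congr_apply he a hx, hta x hx, hαi.map_conj ht (hQ₀T hx)]
  rwa [← h1.eq_of_le (isPGroup_autS c.pT) h2 (c.autT_le_Y hQc.1)] at h1

end Cfsg.Agent.Local.FS.Meet
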