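import Cfsg.Agent.Lib.Local.FS.LocalNormalModel
import Cfsg.Agent.Lib.Local.FS.Meet.Part

/-!
Meets of normal subsystems: the model at a fully normalized subgroup and the part of it belonging to a
normal subsystem.
-/

set_option autoImplicit false

namespace Cfsg.Agent.Local.FS.Meet

open Cfsg Cfsg.FusionSystem Cfsg.Agent.Fusion Cfsg.Agent.Local.FS

universe u v

variable {Ω : Type u} [Group Ω] {S T : Subgroup Ω} {F : FusionSystem S} {E : FusionSystem T}
  {P Q R : Subgroup Ω} {f : Ω → Ω} {p : ℕ}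
  {G : Type v} [Group G] {N : Subgroup Ω} {ι : ↥N →* G}

/-- Conjugation by an element of `G`, read on `N` along `ι`. -/
noncomputable def act (ι : ↥N →* G) (g : G) (x : Ω) : Ω := ve ι (g * ue ι x * g⁻¹)

theorem ue_mem_range {x : Ω} (hx : x ∈ N) : ue ι x ∈ ι.range := ⟨⟨x, hx⟩, (ue_apply hx).symm⟩

theorem ve_ue (hι : Function.Injective ι) {x : Ω} (hx : x ∈ N) : ve ι (ue ι x) = x := by
  rw [ue_apply hx]
  show ((Function.invFun ι (ι ⟨x, hx⟩) : N) : Ω) = x
  rw [Function.leftInverse_invFun hι]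

theorem ue_inj (hι : Function.Injective ι) {x y : Ω} (hx : x ∈ N) (hy : y ∈ N) (h : ue ι x = ue ι y) :
    x = y := by rw [← ve_ue hι hx, h, ve_ue hι hy]

theorem act_mem {g : G} {x : Ω} : act ι g x ∈ N := SetLike.coe_mem _

theorem ue_act {g : G} {x : Ω} (h : g * ue ι x * g⁻¹ ∈ ι.range) :
    ue ι (act ι g x) = g * ue ι x * g⁻¹ := by
  rw [act]
  show ue ι ((Function.invFun ι (g * ue ι x * g⁻¹) : N) : Ω) = _
  rw [ue_coe]
  exact Function.invFun_eq h

theorem act_eq (hι : Function.Injective ι) {g : G} {x y : Ω} (hy : y ∈ N)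
    (h : ue ι y = g * ue ι x * g⁻¹) : act ι g x = y := by
  rw [act, ← h, ve_ue hι hy]

theorem act_comp {g h : G} {x : Ω} (hh : h * ue ι x * h⁻¹ ∈ ι.range) :
    act ι g (act ι h x) = act ι (g * h) x := by
  unfold act
  congr 1
  rw [← act, ue_act hh]
  group

theorem act_one (hι : Function.Injective ι) {x : Ω} (hx : x ∈ N) : act ι 1 x = x :=
  act_eq hι hx (by group)

theorem act_conj (hι : Function.Injective ι) {s x : Ω} (hs : s ∈ N) (hx : x ∈ N) :
    act ι (ue ι s) x = s * x * s⁻¹ :=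
  act_eq hι (N.mul_mem (N.mul_mem hs hx) (N.inv_mem hs)) (ue_conj hs hx)

theorem mem_imG (hP : P ≤ N) {z : G} : z ∈ imG ι P ↔ ∃ x ∈ P, ue ι x = z := mem_up hP

/-- The model of the maps of `F` stabilising `Q` and `Q C_S(Q)`. -/
structure LModel (F : FusionSystem S) (p : ℕ) (Q : Subgroup Ω) (ι : ↥(normalizerIn S Q) →* G) : Prop where
  finite : Finite G
  inj : Function.Injective ι
  syl : SylIn p ι.range ⊤
  nQ : (imG ι Q).Normal
  nH : (imG ι (hat S Q)).Normal
  centH : ∀ g : G, (∀ x ∈ hat S Q, g * ue ι x * g⁻¹ = ue ι x) → g ∈ imG ι (hat S Q)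
  mapG : ∀ P : Subgroup Ω, P ≤ normalizerIn S Q → ∀ g : G,
    (∀ x ∈ P, g * ue ι x * g⁻¹ ∈ ι.range) → Map F (P ⊔ hat S Q) (act ι g)
  ofMap : ∀ (P : Subgroup Ω) (f : Ω → Ω), P ≤ normalizerIn S Q → Map F (P ⊔ hat S Q) f →
    im Q f = Q → im (hat S Q) f = hat S Q →
    ∃ g : G, ∀ x ∈ P ⊔ hat S Q, f x ∈ normalizerIn S Q ∧ ue ι (f x) = g * ue ι x * g⁻¹

variable [Finite S] [Fact p.Prime]

theorem exists_lModel (hS : IsPGroup p S) (hF : F.IsSaturated p) (hQ : F.IsFullyNormalized Q) :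
    ∃ (G : Type u) (_ : Group G) (ι : ↥(normalizerIn S Q) →* G), LModel F p Q ι := by
  haveI : Finite ↥(normalizerIn S Q) := finite_normalizerIn
  haveI : Finite ↥(normalizerIn (normalizerIn S Q) (hat S Q)) := finite_normalizerIn
  obtain ⟨G, hG, κ, hm, hRn⟩ := exists_model_local hS hF hQ
  haveI := hm.1
  have hS7 := normalizerIn_hat S hQ.1
  obtain ⟨ι, hι⟩ : ∃ ι : ↥(normalizerIn S Q) →* G, ι = κ.comp (Subgroup.inclusion hS7.ge) := ⟨_, rfl⟩
  have hιv : ∀ x (hx : x ∈ normalizerIn S Q), ue ι x = κ ⟨x, hS7.ge hx⟩ := fun x hx => by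
    rw [ue_apply hx, hι]; rfl
  have hinj : Function.Injective ι := fun a b h => by
    rw [hι] at h
    exact Subtype.ext (congrArg Subtype.val (hm.2.1.1 h) :)
  have hrange : ι.range = κ.range := by
    ext z
    exact ⟨fun ⟨x, hx⟩ => ⟨⟨x, hS7.ge x.2⟩, by rw [← hx, hι]; rfl⟩,
      fun ⟨x, hx⟩ => ⟨⟨x, hS7.le x.2⟩, by rw [← hx, hι]; rfl⟩⟩
  have himg : ∀ P : Subgroup Ω, imG ι P = imG κ P := fun P => by
    ext z
    exact ⟨fun ⟨x, hx, he⟩ => ⟨⟨x, hS7.ge x.2⟩, hx, by rw [← he, hι]; rfl⟩,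
      fun ⟨x, hx, he⟩ => ⟨⟨x, hS7.le x.2⟩, hx, by rw [← he, hι]; rfl⟩⟩
  have hHn : (localSys F hQ.1).IsNormal (hat S Q) :=
    normal_normalizerSystem (hat_le S hQ.1) fun _ => rfl
  obtain ⟨Sy, hSy⟩ := hm.2.2.1
  have hsyl : SylIn p ι.range ⊤ := hrange ▸ hSy ▸ sylIn_top Sy
  have hH : (imG ι (hat S Q)).Normal := himg _ ▸ normal_image hm hHn
  have hHN : hat S Q ≤ normalizerIn S Q := hat_le S hQ.1
  refine ⟨G, hG, ι, hm.1, hinj, hsyl, himg _ ▸ normal_image hm hRn, hH, ?_, ?_, ?_⟩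
  · -- the centralizer of the hat
    set C := Subgroup.centralizer (imG ι (hat S Q) : Set G) with hC
    haveI : C.Normal := inferInstance
    have hrC : ι.range ⊓ C ≤ imG ι (hat S Q) := by
      rintro _ ⟨⟨x, rfl⟩, hx⟩
      refine ⟨x, ?_, rfl⟩
      refine Subgroup.mem_sup_right (mem_centralizerIn.2 ⟨x.2.1, fun r hr => ?_⟩)
      have h1 := Subgroup.mem_centralizer_iff.1 hx (ι ⟨r, hHN (Subgroup.mem_sup_left hr)⟩)
        ⟨_, Subgroup.mem_sup_left hr, rfl⟩
      rw [← map_mul, ← map_mul] at h1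
      exact congrArg Subtype.val (hinj h1)
    have hsC : SylIn p (ι.range ⊓ C) C := hsyl.inf_normal le_top (by rw [Subgroup.normalizer_eq_top])
    -- a `p`-element of `C` lies in the image of the hat
    have hpel : ∀ z ∈ C, ∀ j : ℕ, z ^ p ^ j = 1 → z ∈ imG ι (hat S Q) := by
      intro z hz j hj
      have hp : IsPGroup p ↥(Subgroup.zpowers z) := by
        obtain ⟨i, -, hi⟩ := (Nat.dvd_prime_pow Fact.out).1 (orderOf_dvd_of_pow_eq_one hj)
        exact IsPGroup.of_card ((Nat.card_zpowers z).trans hi)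
      obtain ⟨x, -, hle⟩ := hsC.conj_le hp (Subgroup.zpowers_le.2 hz)
      have h1 := hrC (hle (conj_mem_cj (g := x) (Subgroup.mem_zpowers z)))
      simpa [mul_assoc] using hH.conj_mem _ h1 x⁻¹
    have hcop : ∀ c ∈ C, (orderOf c).Coprime p → c = 1 := by
      intro c hc hco
      have hcore : IsPGroup p ↥(pCore p G) := isPGroup_pCore p G
      have h1 : c ∈ Subgroup.centralizer (pCore p G : Set G) := by
        refine Subgroup.mem_centralizer_iff.2 fun x hx => ?_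
        obtain ⟨r, hr⟩ : ∃ r, r = x⁻¹ * (c * x * c⁻¹) := ⟨_, rfl⟩
        have hrO : r ∈ pCore p G := hr ▸ Subgroup.mul_mem _ (Subgroup.inv_mem _ hx)
          (Subgroup.Normal.conj_mem inferInstance x hx c)
        have hrC' : r ∈ C := hr ▸ (show x⁻¹ * c * x * c⁻¹ = x⁻¹ * (c * x * c⁻¹) by group) ▸
          C.mul_mem (by simpa using Subgroup.Normal.conj_mem inferInstance c hc x⁻¹) (C.inv_mem hc)
        obtain ⟨k, hk⟩ := hcore ⟨r, hrO⟩
        have hk' : r ^ p ^ k = 1 := congrArg Subtype.val hk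
        have hrc : c * r * c⁻¹ = r := by
          rw [← Subgroup.mem_centralizer_iff.1 hc r (hpel r hrC' k hk'), mul_inv_cancel_right]
        have h2 := NormalInModel.conj_pow_eq (show c * x * c⁻¹ = x * r by rw [hr, mul_inv_cancel_left]) hrc (orderOf c)
        rw [pow_orderOf_eq_one, one_mul, inv_one, mul_one, eq_comm, mul_eq_left] at h2
        have h3 : r = 1 := orderOf_eq_one_iff.1 (Nat.eq_one_of_dvd_coprimes (hco.pow_right k)
          (orderOf_dvd_of_pow_eq_one h2) (orderOf_dvd_of_pow_eq_one hk'))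
        rw [h3] at hr
        have h4 : c * x * c⁻¹ = x := by
          rw [eq_comm, inv_mul_eq_one] at hr
          exact hr.symm
        exact (mul_inv_eq_iff_eq_mul.1 h4).symm
      obtain ⟨k, hk⟩ := hcore ⟨c, hm.2.2.2 h1⟩
      exact orderOf_eq_one_iff.1 (Nat.eq_one_of_dvd_coprimes (hco.pow_right k) dvd_rfl
        (orderOf_dvd_of_pow_eq_one (congrArg Subtype.val hk)))
    intro g hg
    have hgC : g ∈ C := Subgroup.mem_centralizer_iff.2 fun z hz => by
      obtain ⟨x, hx, rfl⟩ := (mem_imG hHN).1 hz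
      exact (mul_inv_eq_iff_eq_mul.1 (hg x hx)).symm
    obtain ⟨k, m, hm', hkm⟩ := Nat.exists_eq_pow_mul_and_not_dvd (orderOf_pos g).ne' p
      (Fact.out : p.Prime).ne_one
    refine hpel g hgC k (hcop _ (C.pow_mem hgC _) ?_)
    rw [orderOf_pow, hkm, Nat.gcd_mul_right_left, Nat.mul_div_cancel_left _ (pow_pos (Fact.out : p.Prime).pos k)]
    exact ((Nat.Prime.coprime_iff_not_dvd Fact.out).2 hm').symm
  · intro P hP g hg
    have hPH : P ⊔ hat S Q ≤ normalizerIn S Q := sup_le hP hHN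
    have hgm : ∀ x ∈ P ⊔ hat S Q, g * ue ι x * g⁻¹ ∈ ι.range := by
      have hle : P ⊔ hat S Q ≤ ((ι.range).comap ((MulAut.conj g).toMonoidHom.comp ι)).map
          (normalizerIn S Q).subtype := by
        refine sup_le (fun x hx => ⟨⟨x, hP hx⟩, ?_, rfl⟩) fun x hx => ⟨⟨x, hHN hx⟩, ?_, rfl⟩
        · show g * ι _ * g⁻¹ ∈ ι.range
          rw [← ue_apply]
          exact hg x hx
        · exact Subgroup.map_le_range ι _ (hH.conj_mem _ ⟨⟨x, hHN hx⟩, hx, rfl⟩ g)
      intro x hx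
      obtain ⟨y, hy, rfl⟩ := hle hx
      show g * ue ι (y : Ω) * g⁻¹ ∈ ι.range
      rw [ue_coe]
      exact hy
    obtain ⟨f, hf, hfg⟩ := exists_map_of_conj hm.2.1 (hPH.trans hS7.ge) g fun x hx => by
      rw [← hrange, ← hιv _ (hS7.le x.2)]; exact hgm _ hx
    obtain ⟨-, -, f', hf', hff, -, -⟩ := map_localSys.1 hf
    refine (hf'.restrict le_sup_left).congr fun x hx => ?_
    have hxN := hPH hx
    rw [hff x hx]
    have h1 := hfg ⟨x, hS7.ge hxN⟩ hx ⟨act ι g x, hS7.ge act_mem⟩ (by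
      rw [← hιv _ act_mem, ue_act (hgm x hx), hιv _ hxN])
    exact h1
  · intro P f hP hf hfQ hfH
    have hPH : P ⊔ hat S Q ≤ normalizerIn S Q := sup_le hP hHN
    have hfN : ∀ x ∈ P ⊔ hat S Q, f x ∈ normalizerIn S Q := fun x hx => by
      have h1 := hf.mem_normalizer (le_sup_left.trans le_sup_right) hx (hPH hx).2
      rwa [hfQ] at h1
    have hf7 : Map (localSys F hQ.1) (P ⊔ hat S Q) f := map_localSys.2
      ⟨hPH, hfN, f, hf.restrict (sup_le le_rfl le_sup_right), fun _ _ => rfl, hfQ, hfH⟩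
    obtain ⟨g, hg⟩ := exists_conj_of_map hm.2.1 hf7
    exact ⟨g, fun x hx => ⟨hfN x hx, by
      rw [hιv _ (hfN x hx), hιv _ (hPH hx)]
      exact hg ⟨x, hS7.ge (hPH hx)⟩ hx ⟨f x, hS7.ge (hfN x hx)⟩ rfl⟩⟩

variable {ι : ↥(normalizerIn S Q) →* G}

namespace LModel

variable (L : LModel F p Q ι)
include L

omit [Finite S] [Fact p.Prime] in
theorem qS (hQ : Q ≤ S) : Q ≤ normalizerIn S Q := le_normalizerIn hQ

omit [Fact p.Prime] in
theorem hat_range (hQ : Q ≤ S) (g : G) {x : Ω} (hx : x ∈ hat S Q) : g * ue ι x * g⁻¹ ∈ ι.range :=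
  Subgroup.map_le_range ι _ (L.nH.conj_mem _ (ue_mem_up (hat_le S hQ) hx) g)

omit [Fact p.Prime] in
theorem act_hat (hQ : Q ≤ S) (g : G) : Map F (hat S Q) (act ι g) := by
  have := L.mapG Q (le_normalizerIn hQ) g fun x hx => L.hat_range hQ g (Subgroup.mem_sup_left hx)
  exact this.restrict le_sup_right

omit [Fact p.Prime] in
theorem act_Q (hQ : Q ≤ S) (g : G) {x : Ω} (hx : x ∈ Q) : act ι g x ∈ Q := by
  obtain ⟨y, hy, he⟩ := (mem_imG (le_normalizerIn hQ)).1 (L.nQ.conj_mem _ (ue_mem_up (le_normalizerIn hQ) hx) g)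
  rw [act_eq L.inj (le_normalizerIn hQ hy) he]
  exact hy

omit [Fact p.Prime] in
theorem act_im (hQ : Q ≤ S) (g : G) : im Q (act ι g) = Q := by
  haveI := finite_of_le hQ
  exact Subgroup.eq_of_le_of_card_ge (im_le_iff.2 fun _ hx => L.act_Q hQ g hx)
    ((L.act_hat hQ g).restrict le_sup_left).card_im.ge

omit [Fact p.Prime] in
theorem act_cent (hQ : Q ≤ S) (g : G) {x : Ω} (hx : x ∈ centralizerIn S Q) :
    act ι g x ∈ centralizerIn S Q := by
  have := (L.act_hat hQ g).mem_centralizer le_sup_left (Subgroup.mem_sup_right hx) (mem_centralizerIn.1 hx).2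
  rwa [L.act_im hQ g] at this

omit [Fact p.Prime] in
theorem act_hat_mem (hQ : Q ≤ S) (g : G) {x : Ω} (hx : x ∈ hat S Q) : act ι g x ∈ hat S Q := by
  obtain ⟨y, hy, he⟩ := (mem_imG (hat_le S hQ)).1 (L.nH.conj_mem _ (ue_mem_up (hat_le S hQ) hx) g)
  rw [act_eq L.inj (hat_le S hQ hy) he]
  exact hy

omit [Fact p.Prime] in
theorem hat_comp (hQ : Q ≤ S) (g h : G) {x : Ω} (hx : x ∈ hat S Q) :
    act ι g (act ι h x) = act ι (g * h) x := act_comp (L.hat_range hQ h hx)

/-- The elements inducing maps of `E` on `Q C_T(Q)` and moving `C_S(Q)` inside `T`. -/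
def part (hQS : Q ≤ S) (hQT : Q ≤ T) (hT : F.StronglyClosed T) (E : FusionSystem T) :
    Subgroup G :=
  have hmul : ∀ a b : G, Part E S Q (act ι a) → Part E S Q (act ι b) → Part E S Q (act ι (a * b)) :=
    fun a b ha hb => (hb.comp ha (fun x hx => L.act_cent hQS b hx)
      (hat_stable hT (L.act_hat hQS b) (L.act_im hQS b))).congr hT.1 fun x hx => L.hat_comp hQS a b hx
  have hone : Part E S Q (act ι (1 : G)) :=
    (part_id hQT).congr hT.1 fun x hx => (act_one L.inj (hat_le S hQS hx)).symm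
  { carrier := {g | Part E S Q (act ι g)}
    one_mem' := hone
    mul_mem' := fun {a b} ha hb => hmul a b ha hb
    inv_mem' := fun {a} ha => by
      haveI := L.finite
      have hpow : ∀ n : ℕ, Part E S Q (act ι (a ^ n)) := fun n => by
        induction n with
        | zero => rw [pow_zero]; exact hone
        | succ n ih => rw [pow_succ]; exact hmul _ _ ih ha
      show Part E S Q (act ι a⁻¹)
      exact (show a⁻¹ = a ^ (orderOf a - 1) by
        rw [inv_eq_iff_mul_eq_one, ← pow_succ', Nat.sub_add_cancel (orderOf_pos a), pow_orderOf_eq_one]) ▸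
          hpow _ }

end LModel

end Cfsg.Agent.Local.FS.Meet
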