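import Cfsg.Agent.Lib.Local.FS.Meet.Basic
import Cfsg.Agent.Lib.Local.FS.Meet.Model

/-!
Meets of normal subsystems: the generators at a fully normalized subgroup are realized by a normal subgroup
of the model with Sylow subgroup the normalizer in the intersection.
-/

set_option autoImplicit false

namespace Cfsg.Agent.Local.FS.Meet

open Cfsg Cfsg.FusionSystem Cfsg.Agent.Fusion Cfsg.Agent.Local.FS

universe u v

variable {Ω : Type u} [Group Ω] {S T : Subgroup Ω} {F : FusionSystem S} {E : FusionSystem T}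
  {P Q R : Subgroup Ω} {f : Ω → Ω} {p : ℕ}
  {G : Type v} [Group G] {ι : ↥(normalizerIn S Q) →* G}
  [Finite S] [Fact p.Prime]

omit [Finite S] in
theorem sylIn_map_hom {A B : Type*} [Group A] [Group B] {U H : Subgroup A} (f : A →* B) (h : SylIn p U H) :
    SylIn p (U.map f) (H.map f) := by
  refine ⟨Subgroup.map_mono h.le, h.isPGroup.map f, fun hd => h.not_dvd (hd.trans ?_)⟩
  have h1 : (U.subgroupOf H).map (f.subgroupMap H) ≤ (U.map f).subgroupOf (H.map f) := by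
    rintro _ ⟨a, ha, rfl⟩
    exact ⟨a, ha, rfl⟩
  exact (Subgroup.index_dvd_of_le h1).trans (Subgroup.index_map_dvd _ (f.subgroupMap_surjective H))

namespace LModel

variable (L : LModel F p Q ι)
include L

theorem exists_part (hS : IsPGroup p S) (hF : F.IsSaturated p) (hE : E.IsNormalIn F p) (hQT : Q ≤ T)
    (hQ : F.IsFullyNormalized Q) :
    ∃ W : Subgroup G, W.Normal ∧ (∀ g ∈ W, Part E S Q (act ι g)) ∧
      SylIn p (imG ι (normalizerIn T Q)) W ∧ ι.range ⊓ W = imG ι (normalizerIn T Q) ∧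
      ∀ g : G, (orderOf g).Coprime p → Part E S Q (act ι g) → g ∈ W := by
  haveI := L.finite
  obtain ⟨⟨hEs, -, hEi⟩, -⟩ := id hE
  have hT := hEi.2.1
  haveI := finite_of_le hT.1
  have hQS := hQ.1
  have hfc := (fc_fa_of_fn hS hF hQ).1
  have hHN : hat S Q ≤ normalizerIn S Q := hat_le S hQS
  have hTN : hat T Q ≤ normalizerIn T Q :=
    sup_le (le_normalizerIn hQT) centralizerIn_le_normalizerIn
  have hNT : normalizerIn T Q ≤ normalizerIn S Q := inf_le_inf_right _ hT.1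
  set A := L.part hQS hQT hT E with hA
  haveI : A.Normal := by
    refine ⟨fun a ha k => ?_⟩
    have ha' : Part E S Q (act ι a) := ha
    show Part E S Q (act ι (k * a * k⁻¹))
    refine Part.transport (X := Q) (f := act ι a) (g := act ι k) hS hF hEi hQT ha'
      (hat_stable hT (L.act_hat hQS a) (L.act_im hQS a)) (fun x hx => L.act_cent hQS a hx)
      (L.act_hat hQS k) (L.act_im hQS k) (fun y hy => ⟨_, L.act_cent hQS k⁻¹ hy, ?_⟩) fun x hx => ?_
    · rw [L.hat_comp hQS k k⁻¹ (Subgroup.mem_sup_right hy), mul_inv_cancel,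
        act_one L.inj (hHN (Subgroup.mem_sup_right hy))]
    · rw [L.hat_comp hQS (k * a * k⁻¹) k hx, inv_mul_cancel_right, L.hat_comp hQS k a hx]
  have hUA : ∀ t ∈ normalizerIn T Q, Part E S Q (act ι (ue ι t)) := by
    intro t ht
    refine ⟨(map_conjBy (hat_le_of hQT) ht.1).congr fun x hx =>
      (act_conj L.inj (hNT ht) (hNT (hTN hx))).symm, fun x hx => ?_⟩
    rw [act_conj L.inj (hNT ht) (hHN (Subgroup.mem_sup_right hx))]
    have h1 := T.mul_mem (stronglyClosed_conj_mem hT (S.inv_mem hx.1) ht.1) (T.inv_mem ht.1)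
    simpa [mul_assoc] using h1
  set K := imG ι (centralizerIn S (hat T Q)) ⊓ A with hK
  have hCN : centralizerIn S (hat T Q) ≤ centralizerIn S Q := fun s hs => mem_centralizerIn.2
    ⟨hs.1, fun y hy => (mem_centralizerIn.1 hs).2 y (Subgroup.mem_sup_left hy)⟩
  have hUP : imG ι (normalizerIn T Q) ≤ ι.range ⊓ A := by
    intro z hz
    obtain ⟨t, ht, rfl⟩ := (mem_imG hNT).1 hz
    exact ⟨ue_mem_range (hNT ht), hUA t ht⟩
  have hUn : ∀ x ∈ ι.range ⊓ A, ∀ u ∈ imG ι (normalizerIn T Q),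
      x * u * x⁻¹ ∈ imG ι (normalizerIn T Q) := by
    rintro _ ⟨⟨s, rfl⟩, -⟩ u hu
    obtain ⟨t, ht, rfl⟩ := (mem_imG hNT).1 hu
    rw [← ue_coe, ← ue_conj s.2 (hNT ht)]
    exact ue_mem_up hNT ⟨stronglyClosed_conj_mem hT s.2.1 ht.1,
      Subgroup.mul_mem _ (Subgroup.mul_mem _ s.2.2 ht.2) (Subgroup.inv_mem _ s.2.2)⟩
  have hQE := fn_of_sub hS hF hT hEi.1 hQT hQ
  have hPUK : ι.range ⊓ A ≤ imG ι (normalizerIn T Q) ⊔ K := by
    rintro z ⟨⟨⟨s, hs⟩, rfl⟩, hzA⟩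
    rw [← ue_apply] at hzA ⊢
    haveI : Finite ↥(normalizerIn T Q) := finite_normalizerIn
    have hsat := normSys_saturated (hS.to_le hT.1) hEs hQE
    have hsc : (normSys E hQE.1).StronglyClosed (hat T Q) := by
      refine stronglyClosed_iff.2 ⟨hTN, fun P f hP hf x hx => ?_⟩
      obtain ⟨-, -, g, hg, hgf, hgQ⟩ := (map_normalizerSystem_iff fun _ => rfl).1 hf
      obtain ⟨a, ha, b, hb, rfl⟩ := mem_sup_of_normalized (S := normalizerIn T Q) (P := centralizerIn T Q)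
        (Q := Q) inf_le_right centralizerIn_le_normalizerIn
        (by rw [sup_comm]; exact hP hx : x ∈ centralizerIn T Q ⊔ Q)
      have hbm : b ∈ P ⊔ Q := Subgroup.mem_sup_right hb
      have ham : a ∈ P ⊔ Q := by
        have := Subgroup.mul_mem _ (Subgroup.mem_sup_left (T := Q) hx) (Subgroup.inv_mem _ hbm)
        simpa [mul_assoc] using this
      rw [← hgf _ hx, hg.map_mul ham hbm]
      refine Subgroup.mul_mem _ (Subgroup.mem_sup_right ?_) (Subgroup.mem_sup_left (hgQ.le (mem_im_of_mem hb)))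
      have := hg.mem_centralizer le_sup_right ham (mem_centralizerIn.1 ha).2
      rwa [hgQ] at this
    have hfn : (normSys E hQE.1).IsFullyNormalized (hat T Q) :=
      ⟨hTN, fun R hR => by rw [eq_of_isConj_stronglyClosed hsc hR]⟩
    have hNp : IsPGroup p ↥(normalizerIn T Q) := hS.to_le (inf_le_left.trans hT.1)
    haveI := mulAut_finite_of_le ((hat_le_of hQT).trans hT.1)
    have hsyl := (fa_iff.1 (fc_fa_of_fn hNp hsat hfn).2).2
    have hsE : Map E (hat T Q) (fun x => s * x * s⁻¹) :=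
      (hzA : Part E S Q (act ι (ue ι s))).1.congr fun x hx => act_conj L.inj hs (hNT (hTN hx))
    have hsn : s ∈ Subgroup.normalizer ((hat T Q : Subgroup Ω) : Set Ω) := by
      refine mem_normalizer_of_conj_mem ((hat_le_of hQT).trans hT.1) fun y hy => ?_
      have := hat_stable hT (L.act_hat hQS (ue ι s)) (L.act_im hQS _) y hy
      rwa [act_conj L.inj hs (hNT (hTN hy))] at this
    obtain ⟨a, ha, haS⟩ := exists_aut_conj hsn
    have hsQ : ∀ x ∈ Q, s * x * s⁻¹ ∈ Q := fun x hx => conj_mem_of_normalizer hs.2 hx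
    have haN : a ∈ (normSys E hQE.1).autGroup (hat T Q) := by
      haveI := finite_of_le hQS
      refine mem_autGroup_of_map ((map_normalizerSystem_iff fun _ => rfl).2 ⟨hTN,
        fun x hx => hTN (av_mem a hx), _, hsE.restrict (sup_le le_rfl le_sup_left), fun x hx => (ha x hx).symm,
        Subgroup.eq_of_le_of_card_ge (im_le_iff.2 hsQ) (hsE.restrict le_sup_left).card_im.ge⟩)
    set A' := autInducedBy (normalizerIn S Q) (hat T Q) ⊓ (normSys E hQE.1).autGroup (hat T Q) with hA'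
    have hA'p : IsPGroup p ↥A' :=
      (isPGroup_autS (S := normalizerIn S Q) (hS.to_le inf_le_left)).to_inf_left
    have hle : autInducedBy (normalizerIn T Q) (hat T Q) ≤ A' := by
      intro b hb
      obtain ⟨t, ht, hbt⟩ := mem_autInducedBy.1 hb
      exact ⟨mem_autInducedBy.2 ⟨t, hNT ht, hbt⟩, hsyl.le hb⟩
    obtain ⟨t, ht, hta⟩ := mem_autInducedBy.1
      ((hsyl.eq_of_le hA'p hle inf_le_right).le ⟨haS _ hs, haN⟩)
    have hk : t⁻¹ * s ∈ centralizerIn S (hat T Q) := by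
      refine mem_centralizerIn.2 ⟨S.mul_mem (S.inv_mem (hNT ht).1) hs.1, fun x hx => ?_⟩
      have h1 := (hta x hx).symm.trans (ha x hx)
      calc x * (t⁻¹ * s) = t⁻¹ * (t * x * t⁻¹) * s := by group
        _ = t⁻¹ * (s * x * s⁻¹) * s := by rw [h1]
        _ = _ := by group
    have hkN : t⁻¹ * s ∈ normalizerIn S Q := centralizerIn_le_normalizerIn (hCN hk)
    have e : ue ι s = ue ι t * ue ι (t⁻¹ * s) := by
      rw [← ue_mul (hNT ht) hkN, mul_inv_cancel_left]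
    have hkA : ue ι (t⁻¹ * s) ∈ A := by
      have := A.mul_mem (A.inv_mem (hUA t ht : ue ι t ∈ A)) hzA
      rwa [e, inv_mul_cancel_left] at this
    rw [e]
    exact Subgroup.mul_mem_sup (ue_mem_up hNT ht)
      ⟨ue_mem_up (hCN.trans centralizerIn_le_normalizerIn) hk, hkA⟩
  have hc : ∀ g ∈ A, ∀ k ∈ K, g * k * g⁻¹ * k⁻¹ ∈ imG ι (normalizerIn T Q) := by
    rintro g hg k ⟨hk, -⟩
    obtain ⟨x, hx, rfl⟩ := (mem_imG (hCN.trans centralizerIn_le_normalizerIn)).1 hk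
    have hxC := hCN hx
    have hgx := L.act_cent hQS g hxC
    have hxN : x ∈ normalizerIn S Q := centralizerIn_le_normalizerIn hxC
    have hgxN : act ι g x ∈ normalizerIn S Q := act_mem
    rw [← ue_act (L.hat_range hQS g (Subgroup.mem_sup_right hxC)), ← ue_inv hxN,
      ← ue_mul hgxN (Subgroup.inv_mem _ hxN)]
    refine ue_mem_up hNT ⟨?_, (Subgroup.mul_mem _ hgxN (Subgroup.inv_mem _ hxN)).2⟩
    have h1 := stronglyClosed_conj_mem hT hxC.1 ((hg : Part E S Q (act ι g)).2 x hxC)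
    simpa [mul_assoc] using h1
  have hconj : ∀ g : G, ∀ u ∈ imG ι (normalizerIn T Q), g * u * g⁻¹ ∈ ι.range →
      g * u * g⁻¹ ∈ imG ι (normalizerIn T Q) := by
    intro g u hu hgu
    obtain ⟨t, ht, rfl⟩ := (mem_imG hNT).1 hu
    rw [← ue_act hgu]
    refine ue_mem_up hNT ⟨?_, (act_mem (ι := ι)).2⟩
    have hz : Subgroup.zpowers t ≤ normalizerIn S Q := Subgroup.zpowers_le.2 (hNT ht)
    have hm := L.mapG _ hz g fun x hx => by
      obtain ⟨n, rfl⟩ := Subgroup.mem_zpowers_iff.1 hx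
      rw [ue_apply (hz hx), show (⟨t ^ n, hz hx⟩ : ↥(normalizerIn S Q)) = ⟨t, hNT ht⟩ ^ n from
        Subtype.ext (by simp), map_zpow, ← ue_apply, ← conj_zpow]
      exact Subgroup.zpow_mem _ hgu n
    exact stronglyClosed_map hT hm (Subgroup.mem_sup_left (Subgroup.mem_zpowers t)) ht.1
  obtain ⟨W, hWn, hWA, hW, hWr, hWc⟩ := Meet.exists_part L.syl hUP
    (le_inf (inf_le_left.trans (Subgroup.map_le_range ι _)) inf_le_right) hPUK hUn hc hconj
  exact ⟨W, hWn, fun g hg => hWA hg, hW, hWr, fun g hgo hg => hWc g hg hgo⟩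

/-- The action on `Q C_S(Q)`. -/
theorem exists_toAutH (hQS : Q ≤ S) :
    ∃ π : G →* MulAut ↥(hat S Q), (∀ g x, x ∈ hat S Q → av (π g) x = act ι g x) ∧
      ∀ g, π g ∈ F.autGroup (hat S Q) := by
  haveI := finite_of_le (hat_le_of hQS : hat S Q ≤ S)
  have h : ∀ g, ∃ a ∈ F.autGroup (hat S Q), ∀ x ∈ hat S Q, av a x = act ι g x := fun g =>
    exists_aut (L.act_hat hQS g) (Subgroup.eq_of_le_of_card_ge
      (im_le_iff.2 fun _ hx => L.act_hat_mem hQS g hx) (L.act_hat hQS g).card_im.ge)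
  choose a ha hae using h
  exact ⟨MonoidHom.mk' a fun g k => aut_ext fun x hx => by
    rw [hae _ x hx, av_mul _ _ hx, hae k x hx, hae g _ (L.act_hat_mem hQS k hx), L.hat_comp hQS g k hx],
    fun g x hx => hae g x hx, ha⟩

/-- The action on `Q`. -/
theorem exists_toAut (hS : IsPGroup p S) (hF : F.IsSaturated p) (hQ : F.IsFullyNormalized Q) :
    ∃ π : G →* MulAut ↥Q, (∀ g x, x ∈ Q → av (π g) x = act ι g x) ∧
      (∀ g, π g ∈ F.autGroup Q) ∧ ∀ a ∈ F.autGroup Q, ∃ g, π g = a := by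
  have hQS := hQ.1
  have h : ∀ g, ∃ a ∈ F.autGroup Q, ∀ x ∈ Q, av a x = act ι g x := fun g =>
    exists_aut ((L.act_hat hQS g).restrict le_sup_left) (L.act_im hQS g)
  choose a ha hae using h
  refine ⟨MonoidHom.mk' a fun g k => aut_ext fun x hx => by
    rw [hae _ x hx, av_mul _ _ hx, hae k x hx, hae g _ (L.act_Q hQS k hx),
      L.hat_comp hQS g k (Subgroup.mem_sup_left hx)], fun g x hx => hae g x hx, ha, fun b hb => ?_⟩
  have hfc := (fc_fa_of_fn hS hF hQ).1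
  obtain ⟨f, hf, hfb, hfH, -⟩ := exists_hat_iso hS hF hfc hfc (map_of_mem_autGroup hQS hb) (im_av b)
  obtain ⟨g, hg⟩ := L.ofMap Q f (le_normalizerIn hQS) (hf.restrict (sup_le le_sup_left le_rfl))
    ((im_congr hfb).trans (im_av b)) hfH
  refine ⟨g, aut_ext fun x hx => ?_⟩
  obtain ⟨h1, h2⟩ := hg x (Subgroup.mem_sup_left hx)
  show av (a g) x = av b x
  rw [hae g x hx, act_eq L.inj h1 h2, hfb x hx]

end LModel

variable {T₁ T₂ : Subgroup Ω} {E₁ : FusionSystem T₁} {E₂ : FusionSystem T₂} (c : Ctx F E₁ E₂ p)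
include c

omit [Finite S] [Fact p.Prime] in
/-- The part of the model belonging to both subsystems. -/
structure Ctx.Key (Q : Subgroup Ω) (ι : ↥(normalizerIn S Q) →* G) (W : Subgroup G) : Prop where
  model : LModel F p Q ι
  normal : W.Normal
  part₁ : ∀ g ∈ W, Part E₁ S Q (act ι g)
  part₂ : ∀ g ∈ W, Part E₂ S Q (act ι g)
  syl : SylIn p (imG ι (normalizerIn c.T Q)) W
  range_inf : ι.range ⊓ W = imG ι (normalizerIn c.T Q)
  gen_le : ∀ a ∈ c.Y Q, ∃ w ∈ W, ∀ x ∈ Q, av a x = act ι w x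

theorem Ctx.exists_key (hQ : F.IsFullyNormalized Q) (hC : c.Cent Q) :
    ∃ (G : Type u) (_ : Group G) (ι : ↥(normalizerIn S Q) →* G) (W : Subgroup G), c.Key Q ι W := by
  obtain ⟨G, hG, ι, L⟩ := exists_lModel c.pS c.sat hQ
  haveI := L.finite
  have hQS := hQ.1
  obtain ⟨W₁, hW₁n, hW₁p, -, hW₁r, hW₁c⟩ := L.exists_part c.pS c.sat c.n₁ (hC.1.trans c.le₁) hQ
  obtain ⟨W₂, hW₂n, hW₂p, -, hW₂r, hW₂c⟩ := L.exists_part c.pS c.sat c.n₂ (hC.1.trans c.le₂) hQ
  haveI := hW₁n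
  haveI := hW₂n
  haveI hWn : (W₁ ⊓ W₂).Normal := Subgroup.normal_inf_normal _ _
  have hNT : normalizerIn c.T Q ≤ normalizerIn S Q := inf_le_inf_right _ c.tS
  have hr : ι.range ⊓ (W₁ ⊓ W₂) = imG ι (normalizerIn c.T Q) := by
    refine le_antisymm (fun z hz => ?_) (le_inf (Subgroup.map_le_range ι _) (le_inf ?_ ?_))
    · obtain ⟨x, hx, rfl⟩ := (mem_imG (inf_le_inf_right _ c.t₁.1)).1 (hW₁r.le ⟨hz.1, hz.2.1⟩)
      obtain ⟨y, hy, hyx⟩ := (mem_imG (inf_le_inf_right _ c.t₂.1)).1 (hW₂r.le ⟨hz.1, hz.2.2⟩)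
      have he := ue_inj L.inj ((inf_le_inf_right _ c.t₂.1 :
        normalizerIn T₂ Q ≤ normalizerIn S Q) hy) ((inf_le_inf_right _ c.t₁.1 :
        normalizerIn T₁ Q ≤ normalizerIn S Q) hx) hyx
      exact ue_mem_up hNT ⟨⟨hx.1, he ▸ hy.1⟩, hx.2⟩
    · exact (Subgroup.map_mono (Subgroup.comap_mono (inf_le_inf_right _ c.le₁))).trans
        (hW₁r.ge.trans inf_le_right)
    · exact (Subgroup.map_mono (Subgroup.comap_mono (inf_le_inf_right _ c.le₂))).trans
        (hW₂r.ge.trans inf_le_right)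
  have hsyl : SylIn p (imG ι (normalizerIn c.T Q)) (W₁ ⊓ W₂) :=
    hr ▸ L.syl.inf_normal le_top (by rw [Subgroup.normalizer_eq_top])
  obtain ⟨π, hπ, hπF, hπs⟩ := L.exists_toAut c.pS c.sat hQ
  obtain ⟨πH, hπH, hπHF⟩ := L.exists_toAutH hQS
  refine ⟨G, hG, ι, W₁ ⊓ W₂,
    ⟨L, hWn, fun g hg => hW₁p g hg.1, fun g hg => hW₂p g hg.2, hsyl, hr, ?_⟩⟩
  suffices hle : c.Y Q ≤ (W₁ ⊓ W₂).map π from fun a ha => by
    obtain ⟨w, hw, rfl⟩ := hle ha
    exact ⟨w, hw, fun x hx => hπ w x hx⟩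
  have hnorm : ∀ b ∈ F.autGroup Q, ∀ a ∈ (W₁ ⊓ W₂).map π, b * a * b⁻¹ ∈ (W₁ ⊓ W₂).map π := by
    rintro b hb _ ⟨w, hw, rfl⟩
    obtain ⟨g, rfl⟩ := hπs b hb
    exact ⟨g * w * g⁻¹, hWn.conj_mem w hw g, by rw [map_mul, map_mul, map_inv]⟩
  have hfc := (fc_fa_of_fn c.pS c.sat hQ).1
  haveI := mulAut_finite_of_le hQS
  refine (Subgroup.closure_le _).2 ?_
  rintro a (⟨Q₁, hQ₁, g, hg, hi, t, ht, htn, hat⟩ | ⟨X, hX, hXc, β, ⟨hβF, hβX, hβo, hβ₁, hβ₂⟩, g, hg, hi, hag⟩)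
  · have haY : a ∈ c.Y Q := Subgroup.subset_closure (Or.inl ⟨Q₁, hQ₁, g, hg, hi, t, ht, htn, hat⟩)
    have haF := c.Y_le_autGroup hC.1 haY
    have hpow : IsPGroup p ↥(Subgroup.zpowers a) := by
      haveI := mulAut_finite_of_le (hQ₁.trans c.tS)
      haveI := c.finT
      obtain ⟨u, hu, huT⟩ := exists_aut_conj htn
      obtain ⟨e, he'⟩ := exists_equiv hg hi
      have hau : a = MulAut.congr e u := aut_ext fun y hy => by
        obtain ⟨x, hx, rfl⟩ := hg.mem_im.1 (hi.ge hy)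
        rw [hat x hx, av_congr_apply he' u hx, hu x hx]
      obtain ⟨k, hk⟩ := IsPGroup.iff_orderOf.1 (isPGroup_autS (S := c.T) (P := Q₁) c.pT) ⟨u, huT c.T ht⟩
      rw [Subgroup.orderOf_mk] at hk
      exact IsPGroup.of_card (n := k) (by rw [Nat.card_zpowers, hau, MulEquiv.orderOf_eq, hk])
    obtain ⟨x, hx, hle⟩ := (fa_iff.1 (fc_fa_of_fn c.pS c.sat hQ).2).2.conj_le hpow (Subgroup.zpowers_le.2 haF)
    obtain ⟨s, hs, hsx⟩ := mem_autInducedBy.1 (hle (conj_mem_cj (g := x) (Subgroup.mem_zpowers a)))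
    have hxm := map_of_mem_autGroup hQS hx
    have hgQ : ∀ y ∈ Q₁, g y ∈ Q := fun y hy => hi.le (mem_im_of_mem hy)
    have hgx : Map F Q₁ (av x ∘ g) := hg.comp hxm hgQ
    have hgxi : im Q₁ (av x ∘ g) = Q := by rw [hg.im_comp, hi, im_av]
    obtain ⟨Φ, hΦ, hΦg⟩ := (receptive_iff.1 (receptive_of_fc c.pS c.sat hfc)).2 Q₁ _ hgx hgxi
    have hkey : ∀ y ∈ Q₁, av x (g (t * y * t⁻¹)) = s * av x (g y) * s⁻¹ := fun y hy => by
      have h1 := hsx _ (av_mem x (hgQ y hy))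
      rwa [av_mul _ _ (av_mem x (hgQ y hy)), av_inv_av x (hgQ y hy), av_mul _ _ (hgQ y hy), hat y hy] at h1
    have htN : t ∈ Nf S Q₁ (av x ∘ g) := ⟨c.tS ht, htn, s, hs, hkey⟩
    have ht' : Φ t ∈ normalizerIn c.T Q := by
      refine ⟨stronglyClosed_map c.tClosed hΦ htN ht, ?_⟩
      have := (hΦ.mem_normalizer (le_Nf hgx) htN htn).2
      rwa [im_congr hΦg, hgxi] at this
    have hmem : x * a * x⁻¹ ∈ (W₁ ⊓ W₂).map π := by
      refine ⟨ue ι (Φ t), (hr.ge.trans inf_le_right) (ue_mem_up hNT ht'), aut_ext fun y hy => ?_⟩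
      obtain ⟨z, hz, rfl⟩ := hgx.mem_im.1 (hgxi.ge hy)
      rw [hπ _ _ hy, act_conj L.inj (hNT ht') (le_normalizerIn hQS hy), hsx _ hy]
      show Φ t * (av x ∘ g) z * (Φ t)⁻¹ = s * (av x ∘ g) z * s⁻¹
      rw [← hΦg z hz, ← hΦ.map_conj htN (le_Nf hgx hz), hΦg _ (conj_mem_of_normalizer htn hz)]
      show av x (g (t * z * t⁻¹)) = _
      rw [hkey z hz, hΦg z hz]
      rfl
    have := hnorm x⁻¹ (inv_mem hx) _ hmem
    rwa [show x⁻¹ * (x * a * x⁻¹) * x⁻¹⁻¹ = a by group] at this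
  · have hXS := hX.1.trans c.tS
    obtain ⟨gh, hgh, hghg, hghi, hghC⟩ := exists_hat_iso c.pS c.sat hXc hfc hg hi
    obtain ⟨e, he⟩ := exists_equiv hgh hghi
    have hβ' := congr_mem_autGroup hgh hghi he hβF
    haveI := finite_of_le (hat_le_of hXS : hat S X ≤ S)
    haveI := finite_of_le (hat_le_of hQS : hat S Q ≤ S)
    haveI := mulAut_finite_of_le (hat_le_of hQS : hat S Q ≤ S)
    have hghX : im X gh = Q := (im_congr hghg).trans hi
    have hβm := map_of_mem_autGroup (hat_le_of hXS) hβF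
    have hβiX : im X (av β) = X := by
      haveI := finite_of_le hXS
      exact Subgroup.eq_of_le_of_card_ge (im_le_iff.2 hβX) (hβm.restrict le_sup_left).card_im.ge
    have hβC : ∀ x ∈ centralizerIn S X, av β x ∈ centralizerIn S X := fun x hx => by
      have := hβm.mem_centralizer le_sup_left (Subgroup.mem_sup_right hx) (mem_centralizerIn.1 hx).2
      rwa [hβiX] at this
    have hsurj : ∀ y ∈ centralizerIn S Q, ∃ x ∈ centralizerIn S X, gh x = y := fun y hy =>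
      (hgh.restrict le_sup_right).surj_of_card_le inf_le_left hghC (hXc.2 Q (isConj_iff.2 ⟨g, hg, hi⟩)) y hy
    have hh : ∀ x ∈ hat S X, av (MulAut.congr e β) (gh x) = gh (av β x) := fun x hx =>
      av_congr_apply he β hx
    have h'₁ := Part.transport c.pS c.sat c.i₁ (hX.1.trans c.le₁) hβ₁ (hat_stable c.t₁ hβm hβiX) hβC hgh
      hghX hsurj hh
    have h'₂ := Part.transport c.pS c.sat c.i₂ (hX.1.trans c.le₂) hβ₂ (hat_stable c.t₂ hβm hβiX) hβC hgh
      hghX hsurj hh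
    obtain ⟨β', hβ'd⟩ : ∃ β', β' = MulAut.congr e β := ⟨_, rfl⟩
    rw [← hβ'd] at hβ' h'₁ h'₂ hh
    have hβ'Q : im Q (av β') = Q := by
      haveI := finite_of_le hQS
      refine Subgroup.eq_of_le_of_card_ge (im_le_iff.2 fun y hy => ?_)
        ((map_of_mem_autGroup (hat_le_of hQS) hβ').restrict le_sup_left).card_im.ge
      obtain ⟨x, hx, rfl⟩ := (hgh.restrict le_sup_left).mem_im.1 (hghX.ge hy)
      rw [hh x (Subgroup.mem_sup_left hx)]
      exact hghX.le (mem_im_of_mem (hβX x hx))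
    obtain ⟨γ, hγ⟩ := L.ofMap Q (av β') (le_normalizerIn hQS)
      ((map_of_mem_autGroup (hat_le_of hQS) hβ').restrict (sup_le le_sup_left le_rfl)) hβ'Q (im_av β')
    have hπγ : πH γ = β' := aut_ext fun y hy => by
      obtain ⟨h1, h2⟩ := hγ y (Subgroup.mem_sup_right hy)
      rw [hπH γ y hy, act_eq L.inj h1 h2]
    obtain ⟨m, hm, hmπ⟩ := CLift.exists_pow_coprime πH γ (p := p)
      (by rw [hπγ, hβ'd, MulEquiv.orderOf_eq]; exact hβo)
    have hval : ∀ y ∈ hat S Q, act ι (γ ^ m) y = av β' y := fun y hy => by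
      rw [← hπH _ y hy, hmπ, hπγ]
    have hw : γ ^ m ∈ W₁ ⊓ W₂ := ⟨hW₁c _ hm (h'₁.congr c.t₁.1 fun y hy => (hval y hy).symm),
      hW₂c _ hm (h'₂.congr c.t₂.1 fun y hy => (hval y hy).symm)⟩
    refine ⟨_, hw, aut_ext fun y hy => ?_⟩
    obtain ⟨x, hx, rfl⟩ := hg.mem_im.1 (hi.ge hy)
    rw [hπ _ _ hy, hval _ (Subgroup.mem_sup_left hy), hag x hx]
    conv_lhs => rw [← hghg x hx, hh x (Subgroup.mem_sup_left hx), hghg _ (hβX x hx)]

/-- `Aut_T(Q)` is Sylow in the generators at a fully normalized centric subgroup. -/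
theorem Ctx.fa_Y_fn (hQ : F.IsFullyNormalized Q) (hC : c.Cent Q) :
    SylIn p (autInducedBy c.T Q) (c.Y Q) := by
  obtain ⟨G, hG, ι, W, K⟩ := c.exists_key hQ hC
  have L := K.model
  haveI := L.finite
  haveI := mulAut_finite_of_le hQ.1
  obtain ⟨π, hπ, -, -⟩ := L.exists_toAut c.pS c.sat hQ
  have hNT : normalizerIn c.T Q ≤ normalizerIn S Q := inf_le_inf_right _ c.tS
  have hU : (imG ι (normalizerIn c.T Q)).map π = autInducedBy c.T Q := by
    ext a
    constructor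
    · rintro ⟨z, hz, rfl⟩
      obtain ⟨t, ht, rfl⟩ := (mem_imG hNT).1 hz
      exact mem_autInducedBy.2 ⟨t, ht.1, fun x hx => by
        rw [hπ _ x hx, act_conj L.inj (hNT ht) (le_normalizerIn hQ.1 hx)]⟩
    · intro ha
      obtain ⟨t, ht, hta⟩ := mem_autInducedBy.1 ha
      have ht' : t ∈ normalizerIn c.T Q := ⟨ht, mem_normalizer_of_conj_aut hta⟩
      exact ⟨_, ue_mem_up hNT ht', aut_ext fun x hx => by
        rw [hπ _ x hx, act_conj L.inj (hNT ht') (le_normalizerIn hQ.1 hx), hta x hx]⟩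
  refine (hU ▸ sylIn_map_hom π K.syl).mono (c.autT_le_Y hC.1) fun a ha => ?_
  obtain ⟨w, hw, hwa⟩ := K.gen_le a ha
  exact ⟨w, hw, aut_ext fun x hx => by rw [hπ w x hx, hwa x hx]⟩

end Cfsg.Agent.Local.FS.Meet
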