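import Cfsg.Agent.Lib.Local.FS.Meet.Dec
import Cfsg.Agent.Lib.Local.FS.PowerIndex

/-!
The automizers of the meet of two normal subsystems at good subgroups, level by level.
-/

set_option autoImplicit false

namespace Cfsg.Agent.Local.FS.Meet

open Cfsg Cfsg.FusionSystem Cfsg.Agent.Fusion Cfsg.Agent.Local.FS

universe u

variable {Ω : Type u} [Group Ω] {S T₁ T₂ : Subgroup Ω} {F : FusionSystem S} {E₁ : FusionSystem T₁}
  {E₂ : FusionSystem T₂} {P Q Q₂ Q₃ R X : Subgroup Ω} {f g h : Ω → Ω} {p : ℕ}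
  [Finite S] [Fact p.Prime] (c : Ctx F E₁ E₂ p)
include c

/-- `Aut_T(Q)` is Sylow among the automorphisms of the generated system. -/
def Ctx.FA (Q : Subgroup Ω) : Prop := SylIn p (autInducedBy c.T Q) (c.sys.autGroup Q)

/-! ### Maps that are a generator after a map of the normalisers -/

/-- `f` is a generator composed with a map defined on `N_T(Q)`. -/
def Ctx.M (Q Q₂ : Subgroup Ω) (f : Ω → Ω) : Prop :=
  ∃ g, c.LMap (normalizerIn c.T Q) g ∧ im Q g = Q₂ ∧ ∃ y ∈ c.Y Q₂, ∀ x ∈ Q, f x = av y (g x)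

theorem Ctx.norm_im (hQ : c.Good Q) (hQ₂ : c.Good Q₂) (hg : c.LMap (normalizerIn c.T Q) g)
    (hi : im Q g = Q₂) : im (normalizerIn c.T Q) g = normalizerIn c.T Q₂ := by
  haveI := c.finT
  have hQN : Q ≤ normalizerIn c.T Q := le_normalizerIn hQ.1.1
  haveI : Finite ↥(normalizerIn c.T Q₂) := finite_of_le (inf_le_left.trans c.tS)
  refine Subgroup.eq_of_le_of_card_ge (im_le_iff.2 fun x hx => ⟨c.lmap_mem hg hx, ?_⟩) ?_
  · have := (hg.1.mem_normalizer hQN hx hx.2).2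
    rwa [hi] at this
  · rw [hg.1.card_im]
    exact c.good_bound hQ (isConj_iff.2 ⟨g, hg.1.restrict hQN, hi⟩)

variable {c}

theorem Ctx.M.congr (hM : c.M Q Q₂ f) (he : ∀ x ∈ Q, f x = h x) : c.M Q Q₂ h :=
  let ⟨g, hg, hi, y, hy, hf⟩ := hM; ⟨g, hg, hi, y, hy, fun x hx => (he x hx).symm.trans (hf x hx)⟩

theorem Ctx.M.left (hM : c.M Q Q₂ f) (hQT : Q ≤ c.T) {y : MulAut Q₂} (hy : y ∈ c.Y Q₂) :
    c.M Q Q₂ (av y ∘ f) := by
  obtain ⟨g, hg, hi, y', hy', hf⟩ := hM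
  refine ⟨g, hg, hi, y * y', mul_mem hy hy', fun x hx => ?_⟩
  show av y (f x) = _
  rw [hf x hx, av_mul _ _ (hi.le (mem_im_of_mem hx))]

theorem Ctx.M.comp (hM : c.M Q Q₂ f) (hM' : c.M Q₂ Q₃ h) (hQ : c.Good Q) (hQ₂ : c.Good Q₂) :
    c.M Q Q₃ (h ∘ f) := by
  obtain ⟨g, hg, hi, y, hy, hf⟩ := hM
  obtain ⟨g', hg', hi', y', hy', hf'⟩ := hM'
  have hQN : Q ≤ normalizerIn c.T Q := le_normalizerIn hQ.1.1
  have hQ₂N : Q₂ ≤ normalizerIn c.T Q₂ := le_normalizerIn hQ₂.1.1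
  have hm : ∀ x ∈ normalizerIn c.T Q, g x ∈ normalizerIn c.T Q₂ := fun x hx =>
    (c.norm_im hQ hQ₂ hg hi).le (mem_im_of_mem hx)
  have hg'Q := hg'.1.restrict hQ₂N
  obtain ⟨e, he⟩ := exists_equiv hg'Q hi'
  refine ⟨g' ∘ g, hg.comp hg' hm, ?_, y' * MulAut.congr e y,
    mul_mem hy' (c.congr_Y hg'Q hi' he hy), fun x hx => ?_⟩
  · rw [(hg.1.restrict hQN).im_comp, hi, hi']
  · have hgx : g x ∈ Q₂ := hi.le (mem_im_of_mem hx)
    show h (f x) = av _ (g' (g x))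
    rw [hf x hx, hf' _ (av_mem y hgx), av_mul _ _ (hi'.le (mem_im_of_mem hgx)), av_congr_apply he y hgx]

theorem Ctx.M.inv (hM : c.M Q Q₂ f) (hQ : c.Good Q) (hQ₂ : c.Good Q₂) (hh : ∀ x ∈ Q, h (f x) = x) :
    c.M Q₂ Q h := by
  obtain ⟨g, hg, hi, y, hy, hf⟩ := hM
  have hQN : Q ≤ normalizerIn c.T Q := le_normalizerIn hQ.1.1
  have hQ₂N : Q₂ ≤ normalizerIn c.T Q₂ := le_normalizerIn hQ₂.1.1
  obtain ⟨k, hk, hkg, hgk, -⟩ := hg.exists_inv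
  rw [c.norm_im hQ hQ₂ hg hi] at hk hgk
  have hki : im Q₂ k = Q := by
    refine (hk.1.restrict hQ₂N).im_eq (fun z hz => ?_) fun x hx => ?_
    · obtain ⟨x, hx, rfl⟩ := (hg.1.restrict hQN).mem_im.1 (hi.ge hz)
      rw [hkg x (hQN hx)]; exact hx
    · exact ⟨g x, hi.le (mem_im_of_mem hx), hkg x (hQN hx)⟩
  have hkQ := hk.1.restrict hQ₂N
  obtain ⟨e, he⟩ := exists_equiv hkQ hki
  refine ⟨k, hk, hki, MulAut.congr e y⁻¹, c.congr_Y hkQ hki he (inv_mem hy), fun z hz => ?_⟩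
  rw [av_congr_apply he _ hz]
  have hz' : av y⁻¹ z ∈ Q₂ := av_mem _ hz
  have hkz : k (av y⁻¹ z) ∈ Q := hki.le (mem_im_of_mem hz')
  have h1 := hh _ hkz
  rwa [hf _ hkz, (hgk _ (hQ₂N hz')).1, av_av_inv y hz] at h1

variable (c)

theorem Ctx.M_base (hQT : Q ≤ c.T) (hg : c.LMap (normalizerIn c.T Q) g) (hi : im Q g = Q₂) :
    c.M Q Q₂ g := by
  refine ⟨g, hg, hi, 1, one_mem _, fun x hx => ?_⟩
  rw [av_one (hi.le (mem_im_of_mem hx))]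

/-! ### `p`-automorphisms restrict to generators -/

theorem Ctx.pElement_restrict (hR : c.Cent R) (hFA : ∀ R', c.Good R' → Nat.card R' = Nat.card R → c.FA R')
    {b : MulAut R} (hb : b ∈ c.sys.autGroup R) (hk : ∃ k, orderOf b = p ^ k) (hXR : X ≤ R)
    (hbX : ∀ x ∈ X, av b x ∈ X) : ∃ a ∈ c.Y X, ∀ x ∈ X, av a x = av b x := by
  haveI := c.finT
  have hRS := hR.1.trans c.tS
  haveI := mulAut_finite_of_le hRS
  have hXS := hXR.trans hRS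
  haveI := finite_of_le hXS
  obtain ⟨R', e, hR', he, hei, -⟩ := c.exists_toGood hR
  have heR := he.restrict (le_normalizerIn hR.1)
  haveI := mulAut_finite_of_le hR'.1.1
  obtain ⟨ε, hε⟩ := exists_equiv heR.1 hei
  have hb' : MulAut.congr ε b ∈ c.sys.autGroup R' :=
    congr_mem_autGroup (c.map_sys.2 heR) hei hε hb
  obtain ⟨k, hk⟩ := hk
  have hp : IsPGroup p ↥(Subgroup.zpowers (MulAut.congr ε b)) :=
    IsPGroup.of_card (n := k) (by rw [Nat.card_zpowers, MulEquiv.orderOf_eq, hk])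
  obtain ⟨x, hx, hle⟩ := (hFA R' hR' ((congrArg (fun A : Subgroup Ω => Nat.card A) hei).symm.trans
    heR.1.card_im)).conj_le hp (Subgroup.zpowers_le.2 hb')
  obtain ⟨t, ht, htb⟩ := mem_autInducedBy.1 (hle (conj_mem_cj (g := x) (Subgroup.mem_zpowers _)))
  have hem : ∀ z ∈ R, e z ∈ R' := fun z hz => hei.le (mem_im_of_mem hz)
  have hw : c.LMap R (av x ∘ e) := heR.comp ((c.mem_autSys hR'.1.1).1 hx) hem
  have hwb : ∀ z ∈ R, (av x ∘ e) (av b z) = t * (av x ∘ e) z * t⁻¹ := by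
    intro z hz
    have h1 := htb _ (av_mem x (hem z hz))
    rw [av_mul _ _ (av_mem x (hem z hz)), av_inv_av x (hem z hz), av_mul _ _ (hem z hz),
      av_congr_apply hε b hz] at h1
    exact h1
  obtain ⟨w, hwd⟩ : ∃ w, w = av x ∘ e := ⟨_, rfl⟩
  rw [← hwd] at hw hwb
  obtain ⟨v, hv, hvw, hwv, -⟩ := (hw.restrict hXR).exists_inv
  have hm : Map F X (av b) :=
    (map_of_mem_autGroup hRS (autGroup_le_of_sub c.sys_sub hR.1 hb)).restrict hXR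
  obtain ⟨a, -, hab⟩ := exists_aut hm
    (Subgroup.eq_of_le_of_card_ge (im_le_iff.2 hbX) hm.card_im.ge)
  refine ⟨a, Subgroup.subset_closure (Or.inl ⟨im X w, c.lmap_im_le (hw.restrict hXR), v, hv.1, ?_,
    t, ht, ?_, fun z hz => ?_⟩), hab⟩
  · exact hv.1.im_eq (fun z hz => (hwv z hz).2) fun z hz => ⟨w z, mem_im_of_mem hz, hvw z hz⟩
  · refine mem_normalizer_of_conj_mem (S := c.T) (c.lmap_im_le (hw.restrict hXR)) fun z hz => ?_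
    obtain ⟨u, hu, rfl⟩ := (hw.1.restrict hXR).mem_im.1 hz
    rw [← hwb u (hXR hu)]
    exact mem_im_of_mem (hbX u hu)
  · obtain ⟨u, hu, rfl⟩ := (hw.1.restrict hXR).mem_im.1 hz
    rw [hvw u hu, hab u hu, ← hwb u (hXR hu), hvw _ (hbX u hu)]

/-! ### Restrictions of maps defined on larger subgroups -/

theorem Ctx.extend (n : ℕ) (hFA : ∀ R, c.Good R → n < Nat.card R → c.FA R)
    (hRec : ∀ R, c.Good R → n < Nat.card R → c.sys.IsReceptive R) :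
    ∀ (m : ℕ) (Q Q₂ R₁ : Subgroup Ω) (h : Ω → Ω), Nat.card c.T - Nat.card R₁ = m → c.Good Q →
      c.Good Q₂ → Nat.card Q = n → Q < R₁ → R₁ ≤ normalizerIn c.T Q → c.LMap R₁ h → im Q h = Q₂ →
      c.M Q Q₂ h := by
  haveI := c.finT
  intro m
  induction m using Nat.strong_induction_on with
  | _ m ih =>
  intro Q Q₂ R₁ h hm hQ hQ₂ hn hQR hRN hh hi
  rcases eq_or_lt_of_le hRN with rfl | hlt
  · exact c.M_base hQ.1.1 hh hi
  obtain ⟨R₂, hR₂⟩ : ∃ R₂, R₂ = im R₁ h := ⟨_, rfl⟩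
  have hR₁T : R₁ ≤ c.T := hh.2.1
  have hR₂T : R₂ ≤ c.T := hR₂ ▸ c.lmap_im_le hh
  have hR₁c : c.Cent R₁ := c.cent_mono hQ.1 hQR.le hR₁T
  have hR₂c : c.Cent R₂ := hR₂ ▸ c.cent_im hR₁c hh.1
  have hQ₂R₂ : Q₂ ≤ R₂ := by rw [hR₂, ← hi]; exact im_mono hQR.le
  have hcR : Nat.card R₂ = Nat.card R₁ := hR₂ ▸ hh.1.card_im
  have hR₂N : R₂ ≤ normalizerIn c.T Q₂ := by
    rw [hR₂]
    refine im_le_iff.2 fun x hx => ⟨c.lmap_mem hh hx, ?_⟩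
    have := (hh.1.mem_normalizer hQR.le hx (hRN hx).2).2
    rwa [hi] at this
  have hNeq : Nat.card ↥(normalizerIn c.T Q) = Nat.card ↥(normalizerIn c.T Q₂) :=
    le_antisymm (c.good_bound hQ₂ (isConj_symm (isConj_iff.2 ⟨h, hh.1.restrict hQR.le, hi⟩)))
      (c.good_bound hQ (isConj_iff.2 ⟨h, hh.1.restrict hQR.le, hi⟩))
  have hR₂lt : R₂ < normalizerIn c.T Q₂ := lt_of_le_of_ne hR₂N fun he => by
    have h1 := card_lt_of_lt hlt (inf_le_left.trans c.tS)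
    rw [hNeq, ← he, hcR] at h1
    exact lt_irrefl _ h1
  -- the normalisers of `Rᵢ`
  obtain ⟨W₁, hW₁⟩ : ∃ W, W = normalizerIn c.T Q ⊓ Subgroup.normalizer (R₁ : Set Ω) := ⟨_, rfl⟩
  obtain ⟨W₂, hW₂⟩ : ∃ W, W = normalizerIn c.T Q₂ ⊓ Subgroup.normalizer (R₂ : Set Ω) := ⟨_, rfl⟩
  have hg₁ : R₁ < W₁ := hW₁ ▸ lt_inf_normalizer c.pS hlt (inf_le_left.trans c.tS)
  have hg₂ : R₂ < W₂ := hW₂ ▸ lt_inf_normalizer c.pS hR₂lt (inf_le_left.trans c.tS)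
  obtain ⟨R₃, f₂, hR₃, hf₂N, hf₂i, -⟩ := c.exists_toGood hR₂c
  have hf₂ := hf₂N.restrict (le_normalizerIn hR₂T)
  obtain ⟨f₁, hf₁d⟩ : ∃ f₁, f₁ = f₂ ∘ h := ⟨_, rfl⟩
  have hf₁ : c.LMap R₁ f₁ := hf₁d ▸ hh.comp hf₂ fun x hx => hR₂ ▸ mem_im_of_mem hx
  have hf₁i : im R₁ f₁ = R₃ := by rw [hf₁d, hh.1.im_comp, ← hR₂, hf₂i]
  obtain ⟨Q₃, hQ₃⟩ : ∃ Q₃, Q₃ = im Q₂ f₂ := ⟨_, rfl⟩
  have hf₁Q : im Q f₁ = Q₃ := by rw [hf₁d, (hh.1.restrict hQR.le).im_comp, hi, hQ₃]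
  have hQ₃R : Q₃ ≤ R₃ := by rw [hQ₃, ← hf₂i]; exact im_mono hQ₂R₂
  have hR₃T := hR₃.1.1
  haveI := finite_of_le (hR₃T.trans c.tS)
  haveI := mulAut_finite_of_le hR₃T
  haveI := mulAut_finite_of_le hR₁T
  haveI := mulAut_finite_of_le hR₂T
  have hn3 : n < Nat.card R₃ := by
    rw [← hn, ← hf₁i, hf₁.1.card_im]
    exact card_lt_of_lt hQR (hR₁T.trans c.tS)
  have hFA₃ : ∀ R', c.Good R' → Nat.card R' = Nat.card R₃ → c.FA R' := fun R' h1 h2 => hFA R' h1 (h2 ▸ hn3)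
  obtain ⟨St, hSt⟩ : ∃ St, St = stab c.sys R₃ Q₃ Q₃ := ⟨_, rfl⟩
  -- the transported normalisers
  obtain ⟨e₁, he₁⟩ := exists_equiv hf₁.1 hf₁i
  obtain ⟨e₂, he₂⟩ := exists_equiv hf₂.1 hf₂i
  have hU : ∀ (Qi Ri Wi : Subgroup Ω) (fi : Ω → Ω) (e : Ri ≃* R₃), c.LMap Ri fi →
      im Ri fi = R₃ → (∀ x : Ri, (e x : Ω) = fi x) → Qi ≤ Ri → im Qi fi = Q₃ →
      Wi = normalizerIn c.T Qi ⊓ Subgroup.normalizer (Ri : Set Ω) →
      IsPGroup p ↥((autInducedBy Wi Ri).map (MulAut.congr e).toMonoidHom) ∧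
      (autInducedBy Wi Ri).map (MulAut.congr e).toMonoidHom ≤ St := by
    intro Qi Ri Wi fi e hfi hii he hQiR hQi hWi
    have hle : autInducedBy Wi Ri ≤ autInducedBy c.T Ri := fun a ha => by
      obtain ⟨w, hw, h⟩ := mem_autInducedBy.1 ha
      exact mem_autInducedBy.2 ⟨w, (hWi ▸ hw : w ∈ normalizerIn c.T Qi ⊓ _).1.1, h⟩
    refine ⟨((isPGroup_autS c.pT).to_le hle).map _, ?_⟩
    rintro _ ⟨a, ha, rfl⟩
    obtain ⟨w, hw, hwa⟩ := mem_autInducedBy.1 ha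
    rw [hWi] at hw
    have hA : MulAut.congr e a ∈ c.sys.autGroup R₃ :=
      congr_mem_autGroup (c.map_sys.2 hfi) hii he (autInducedBy_le_autGroup hfi.2.1 (hle ha))
    have h1 : ∀ b : MulAut Ri, (∀ x ∈ Qi, av b x ∈ Qi) → ∀ y ∈ Q₃, av (MulAut.congr e b) y ∈ Q₃ := by
      intro b hb y hy
      obtain ⟨x, hx, rfl⟩ := (hfi.1.restrict hQiR).mem_im.1 (hQi.ge hy)
      rw [av_congr_apply he b (hQiR hx)]
      exact hQi.le (mem_im_of_mem (hb x hx))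
    refine hSt ▸ ⟨hA, fun y hy => ?_⟩
    have key : av (MulAut.congr e a) y ∈ Q₃ ↔ y ∈ Q₃ := by
      refine ⟨fun h => ?_, h1 a (fun x hx => ?_) y⟩
      · have h2 := h1 a⁻¹ (fun x hx => ?_) _ h
        · rwa [map_inv, av_inv_av _ hy] at h2
        · have h3 : av a⁻¹ x = w⁻¹ * x * w⁻¹⁻¹ := by
            have := hwa _ (av_mem a⁻¹ (hQiR hx))
            rw [av_av_inv a (hQiR hx)] at this
            conv_rhs => rw [this]
            group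
          rw [h3]
          exact conj_mem_of_normalizer (inv_mem hw.1.2) hx
      · rw [hwa x (hQiR hx)]
        exact conj_mem_of_normalizer hw.1.2 hx
    exact ⟨key, key⟩
  obtain ⟨hU₁p, hU₁⟩ := hU Q R₁ W₁ f₁ e₁ hf₁ hf₁i he₁ hQR.le hf₁Q hW₁
  obtain ⟨hU₂p, hU₂⟩ := hU Q₂ R₂ W₂ f₂ e₂ hf₂ hf₂i he₂ hQ₂R₂ hQ₃.symm hW₂
  obtain ⟨U₁, hU₁d⟩ : ∃ U, U = (autInducedBy W₁ R₁).map (MulAut.congr e₁).toMonoidHom := ⟨_, rfl⟩
  obtain ⟨U₂, hU₂d⟩ : ∃ U, U = (autInducedBy W₂ R₂).map (MulAut.congr e₂).toMonoidHom := ⟨_, rfl⟩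
  rw [← hU₁d] at hU₁p hU₁
  rw [← hU₂d] at hU₂p hU₂
  obtain ⟨L, hL⟩ : ∃ L, L = Subgroup.closure {a : MulAut R₃ | a ∈ St ∧ ∃ k : ℕ, orderOf a = p ^ k} :=
    ⟨_, rfl⟩
  have hpL : ∀ A : Subgroup (MulAut R₃), IsPGroup p A → A ≤ St → A ≤ L := fun A hA hle a ha => by
    obtain ⟨k, hk⟩ := IsPGroup.iff_orderOf.1 hA ⟨a, ha⟩
    rw [Subgroup.orderOf_mk] at hk
    exact hL ▸ Subgroup.subset_closure ⟨hle ha, k, hk⟩
  have hLSt : L ≤ St := hL ▸ (Subgroup.closure_le _).2 fun a ha => ha.1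
  obtain ⟨P₀, hP₀, hU₂P⟩ := exists_sylIn_ge hU₂p hU₂
  have hP₀L := hP₀.mono (hpL _ hP₀.isPGroup hP₀.le) hLSt
  obtain ⟨y, hy, hyle⟩ := hP₀L.conj_le hU₁p (hpL _ hU₁p hU₁)
  -- elements of `L` restrict to generators
  have hres : ∀ z ∈ L, ∃ a ∈ c.Y Q₃, ∀ x ∈ Q₃, av a x = av z x := by
    intro z hz
    rw [hL] at hz
    induction hz using Subgroup.closure_induction with
    | mem z hz =>
      obtain ⟨hzA, hzQ⟩ := (hSt ▸ hz.1 : z ∈ stab c.sys R₃ Q₃ Q₃)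
      exact c.pElement_restrict hR₃.1 hFA₃ hzA hz.2 hQ₃R fun x hx => (hzQ x (hQ₃R hx)).1.2 hx
    | one => exact ⟨1, one_mem _, fun x hx => by rw [av_one hx, av_one (hQ₃R hx)]⟩
    | mul z w _ _ iz iw =>
      obtain ⟨a, ha, haz⟩ := iz
      obtain ⟨b, hb, hbw⟩ := iw
      refine ⟨a * b, mul_mem ha hb, fun x hx => ?_⟩
      rw [av_mul _ _ hx, av_mul _ _ (hQ₃R hx), haz _ (av_mem b hx), hbw x hx]
    | inv z _ iz =>
      obtain ⟨a, ha, haz⟩ := iz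
      refine ⟨a⁻¹, inv_mem ha, fun x hx => ?_⟩
      have h1 := congrArg (av z⁻¹) (haz _ (av_mem a⁻¹ hx))
      rw [av_av_inv a hx, av_inv_av z (hQ₃R (av_mem _ hx))] at h1
      exact h1.symm
  obtain ⟨hyA, hyQ⟩ := (hSt ▸ hLSt hy : y ∈ stab c.sys R₃ Q₃ Q₃)
  obtain ⟨γ, hγ, hγle⟩ := (hFA R₃ hR₃ hn3).conj_le hP₀.isPGroup
    (fun a ha => ((hSt ▸ hP₀.le ha : a ∈ stab c.sys R₃ Q₃ Q₃)).1)
  -- the two maps into `R₃` and their extensions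
  obtain ⟨Q₄, hQ₄⟩ : ∃ Q₄, Q₄ = im Q₃ (av γ) := ⟨_, rfl⟩
  have hγm := (c.mem_autSys hR₃T).1 hγ
  have hkext : ∀ (Qi Ri Wi : Subgroup Ω) (fi : Ω → Ω) (e : Ri ≃* R₃) (δ : MulAut R₃),
      δ ∈ c.sys.autGroup R₃ → c.LMap Ri fi → im Ri fi = R₃ → (∀ x : Ri, (e x : Ω) = fi x) →
      Qi ≤ Ri → im Qi fi = Q₃ → (∀ x ∈ Q₃, av δ x ∈ Q₃) → Ri ≤ Wi →
      Wi = normalizerIn c.T Qi ⊓ Subgroup.normalizer (Ri : Set Ω) →
      cj ((autInducedBy Wi Ri).map (MulAut.congr e).toMonoidHom) (γ * δ) ≤ autInducedBy c.T R₃ →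
      ∃ K, c.LMap Wi K ∧ (∀ x ∈ Ri, K x = av γ (av δ (fi x))) ∧
        (∀ w ∈ Wi, K w ∈ normalizerIn c.T Q₄) ∧ im Qi K = Q₄ := by
    intro Qi Ri Wi fi e δ hδ hfi hii he hQiR hQi hδQ hRW hWi hle
    have hfim : ∀ x ∈ Ri, fi x ∈ R₃ := fun x hx => hii.le (mem_im_of_mem hx)
    obtain ⟨ki, hkid⟩ : ∃ ki, ki = fun x => av (γ * δ) (fi x) := ⟨_, rfl⟩
    have hki : c.LMap Ri ki := hkid ▸ hfi.comp ((c.mem_autSys hR₃T).1 (mul_mem hγ hδ)) hfim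
    have hkii : im Ri ki = R₃ := by
      rw [hkid, show (fun x => av (γ * δ) (fi x)) = av (γ * δ) ∘ fi from rfl, hfi.1.im_comp, hii, im_av]
    obtain ⟨G, hG, hGk⟩ := (receptive_iff.1 (hRec R₃ hR₃ hn3)).2 Ri ki
      (c.map_sys.2 hki) hkii
    have hWN : Wi ≤ Nf c.T Ri ki := by
      intro w hw
      rw [hWi] at hw
      obtain ⟨a, ha, haW⟩ := exists_aut_conj hw.2
      obtain ⟨t, ht, htc⟩ := mem_autInducedBy.1 (hle (conj_mem_cj (g := γ * δ)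
        ⟨a, haW Wi (hWi ▸ hw), rfl⟩))
      refine mem_Nf.2 ⟨hw.1.1, hw.2, t, ht, fun x hx => ?_⟩
      have h1 := htc _ (av_mem (γ * δ) (hfim x hx))
      rw [av_mul _ _ (av_mem _ (hfim x hx)), av_inv_av _ (hfim x hx),
        av_mul (γ * δ) _ (hfim x hx), show ((MulAut.congr e).toMonoidHom a : MulAut R₃) = MulAut.congr e a
          from rfl, av_congr_apply he a hx, ha x hx] at h1
      rw [hkid]
      exact h1
    have hGW := (c.map_sys.1 hG).restrict hWN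
    have hval : ∀ x ∈ Ri, G x = av γ (av δ (fi x)) := fun x hx => by
      rw [hGk x hx, hkid]
      exact av_mul _ _ (hfim x hx)
    have hGQ : im Qi G = Q₄ := by
      haveI := finite_of_le (hQ₃R.trans (hR₃T.trans c.tS))
      have hδi : im Q₃ (av δ) = Q₃ := Subgroup.eq_of_le_of_card_ge (im_le_iff.2 hδQ)
        ((map_of_mem_autGroup (F := c.sys) hR₃T hδ).restrict hQ₃R).card_im.ge
      have hfQ := hfi.1.restrict hQiR
      rw [im_congr (g := av γ ∘ (av δ ∘ fi)) fun x hx => hval x (hQiR hx),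
        (hfQ.comp ((map_of_mem_autGroup (F := c.sys) hR₃T hδ).of_sub c.sys_sub)
          fun x hx => hfim x (hQiR hx)).im_comp, hfQ.im_comp, hQi, hδi, hQ₄]
    refine ⟨G, hGW, hval, fun w hw => ⟨c.lmap_mem hGW hw, ?_⟩, hGQ⟩
    have := (hGW.1.mem_normalizer (hQiR.trans hRW) hw (hWi ▸ hw : w ∈ normalizerIn c.T Qi ⊓ _).1.2).2
    rwa [hGQ] at this
  obtain ⟨K₁, hK₁, hK₁v, hK₁N, hK₁Q⟩ := hkext Q R₁ W₁ f₁ e₁ y hyA hf₁ hf₁i he₁ hQR.le hf₁Q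
    (fun x hx => (hyQ x (hQ₃R hx)).1.2 hx) hg₁.le hW₁ (by
      rw [← hU₁d, ← cj_cj]
      exact (cj_mono hyle γ).trans hγle)
  obtain ⟨K₂, hK₂, hK₂v, hK₂N, hK₂Q⟩ := hkext Q₂ R₂ W₂ f₂ e₂ 1 (one_mem _) hf₂ hf₂i he₂ hQ₂R₂ hQ₃.symm
    (fun x hx => by rw [av_one (hQ₃R hx)]; exact hx) hg₂.le hW₂ (by
      rw [← hU₂d, mul_one]
      exact (cj_mono hU₂P γ).trans hγle)
  have hQ₄c : c.Cent Q₄ := hK₁Q ▸ c.cent_im hQ.1 (hK₁.1.restrict (hQR.le.trans hg₁.le))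
  obtain ⟨Q₅, e₄, hQ₅, he₄, he₄i, -⟩ := c.exists_toGood hQ₄c
  have hW₁N : W₁ ≤ normalizerIn c.T Q := hW₁ ▸ inf_le_left
  have hW₂N : W₂ ≤ normalizerIn c.T Q₂ := hW₂ ▸ inf_le_left
  have hW₁T : W₁ ≤ c.T := hW₁N.trans inf_le_left
  have hW₂T : W₂ ≤ c.T := hW₂N.trans inf_le_left
  haveI := finite_of_le (hW₁T.trans c.tS)
  haveI := finite_of_le (hW₂T.trans c.tS)
  have hQW₁ : Q ≤ W₁ := hQR.le.trans hg₁.le
  have hQW₂ : Q₂ ≤ W₂ := hQ₂R₂.trans hg₂.le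
  have hM₁ : c.M Q Q₅ (e₄ ∘ K₁) := by
    refine ih (Nat.card c.T - Nat.card W₁) ?_ Q Q₅ W₁ _ rfl hQ hQ₅ hn (hQR.trans hg₁) hW₁N
      (hK₁.comp he₄ hK₁N) (by rw [(hK₁.1.restrict hQW₁).im_comp, hK₁Q, he₄i])
    have h1 := card_lt_of_lt hg₁ (hW₁T.trans c.tS)
    have h2 := Subgroup.card_le_of_le hW₁T
    omega
  have hn₂ : Nat.card Q₂ = n := by rw [← hn, ← hi, (hh.1.restrict hQR.le).card_im]
  have hM₂ : c.M Q₂ Q₅ (e₄ ∘ K₂) := by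
    have hlt2 : Q₂ < R₂ := lt_of_le_of_ne hQ₂R₂ fun he => by
      have := card_lt_of_lt hQR (hR₁T.trans c.tS)
      rw [← hcR, ← he, hn₂, hn] at this
      exact lt_irrefl _ this
    refine ih (Nat.card c.T - Nat.card W₂) ?_ Q₂ Q₅ W₂ _ rfl hQ₂ hQ₅ hn₂ (hlt2.trans hg₂) hW₂N
      (hK₂.comp he₄ hK₂N) (by rw [(hK₂.1.restrict hQW₂).im_comp, hK₂Q, he₄i])
    have h1 := card_lt_of_lt hg₂ (hW₂T.trans c.tS)
    have h2 := Subgroup.card_le_of_le hW₂T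
    omega
  -- the correcting generator on `Q₅`
  obtain ⟨a, ha, hay⟩ := hres y⁻¹ (inv_mem hy)
  have hQ₄T : Q₄ ≤ c.T := hQ₄c.1
  have hQ₄N : Q₄ ≤ normalizerIn c.T Q₄ := le_normalizerIn hQ₄T
  have hw : Map F Q₃ (e₄ ∘ av γ) := (hγm.1.restrict hQ₃R).comp (he₄.1.restrict hQ₄N)
    fun x hx => hQ₄ ▸ mem_im_of_mem hx
  have hwi : im Q₃ (e₄ ∘ av γ) = Q₅ := by rw [(hγm.1.restrict hQ₃R).im_comp, ← hQ₄, he₄i]
  obtain ⟨ew, hew⟩ := exists_equiv hw hwi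
  have hy' := c.congr_Y hw hwi hew ha
  -- assembling
  have hQ₂inv : ∀ z ∈ Q₂, (e₄ ∘ K₂) z ∈ Q₅ := fun z hz =>
    he₄i.le (mem_im_of_mem (hK₂Q.le (mem_im_of_mem hz)))
  obtain ⟨kk, -, hkk, -, -⟩ := ((hK₂.comp he₄ hK₂N).restrict hQW₂).exists_inv
  refine ((hM₁.left hQ.1.1 hy').comp (hM₂.inv hQ₂ hQ₅ hkk) hQ hQ₅).congr fun x hx => ?_
  have hfx : f₁ x ∈ Q₃ := hf₁Q.le (mem_im_of_mem hx)
  have hhx : h x ∈ Q₂ := hi.le (mem_im_of_mem hx)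
  show kk (av _ (e₄ (K₁ x))) = h x
  rw [hK₁v x (hQR.le hx), show e₄ (av γ (av y (f₁ x))) = (e₄ ∘ av γ) (av y (f₁ x)) from rfl,
    av_congr_apply hew a ((hyQ _ (hQ₃R hfx)).1.2 hfx), hay _ ((hyQ _ (hQ₃R hfx)).1.2 hfx),
    av_inv_av y (hQ₃R hfx)]
  have he : (e₄ ∘ av γ) (f₁ x) = (e₄ ∘ K₂) (h x) := by
    show e₄ (av γ (f₁ x)) = e₄ (K₂ (h x))
    rw [hK₂v _ (hQ₂R₂ hhx), av_one (hf₂i.le (mem_im_of_mem (hQ₂R₂ hhx))), hf₁d]
    rfl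
  rw [he, hkk _ hhx]

/-! ### Full automisation at good subgroups -/

theorem Ctx.aut_top_le : c.sys.autGroup c.T ≤ c.Y c.T := by
  haveI := c.finT
  intro α hα
  obtain ⟨-, -, hK⟩ := (c.mem_autSys le_rfl).1 hα
  let K : Subgroup Ω → (Ω → Ω) → Prop := fun P f =>
    c.LMap P f ∧ (P = c.T → ∃ y ∈ c.Y P, ∀ x ∈ P, av y x = f x)
  have hKc : IsClosedClass F K := by
    refine ⟨?_, ?_, ?_, ?_⟩
    · rintro P f g ⟨hf, h⟩ he
      refine ⟨hf.congr he, fun hP => ?_⟩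
      obtain ⟨y, hy, hyf⟩ := h hP
      exact ⟨y, hy, fun x hx => (hyf x hx).trans (he x hx)⟩
    · rintro P R f - ⟨hf, h⟩ hR
      refine ⟨hf.restrict hR, fun hRT => ?_⟩
      obtain rfl : R = P := le_antisymm hR (hRT ▸ hf.2.1)
      exact h hRT
    · rintro P R f g - - ⟨hf, h⟩ ⟨hg, h'⟩ hm
      refine ⟨hf.comp hg hm, fun hP => ?_⟩
      subst hP
      obtain rfl : R = c.T := by
        refine le_antisymm hg.2.1 fun z hz => ?_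
        obtain ⟨x, hx, rfl⟩ := hf.1.surj_of_card_le c.tS (fun x hx => c.lmap_mem hf hx) le_rfl z hz
        exact hm x hx
      obtain ⟨y, hy, hyf⟩ := h rfl
      obtain ⟨y', hy', hyg⟩ := h' rfl
      exact ⟨y' * y, mul_mem hy' hy, fun x hx => by
        rw [av_mul _ _ hx, hyf x hx, hyg _ (c.lmap_mem hf hx)]; rfl⟩
    · rintro P f g hfm ⟨hf, h⟩ hg
      refine ⟨c.lmap_closed.inv hfm hf hg, fun hP => ?_⟩
      have hPT : P = c.T := by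
        haveI := finite_of_le hfm.le
        refine Subgroup.eq_of_le_of_card_ge hf.2.1 ?_
        rw [← hfm.card_im, hP]
      subst hPT
      obtain ⟨y, hy, hyf⟩ := h rfl
      rw [hP]
      refine ⟨y⁻¹, inv_mem hy, fun z hz => ?_⟩
      obtain ⟨x, hx, rfl⟩ := hfm.mem_im.1 (hP.ge hz)
      rw [hg x hx, ← hyf x hx, av_inv_av y hx]
  obtain ⟨-, hy⟩ := hK K hKc
    (fun Q t hQ ht => ⟨c.lmap_conjBy hQ ht, fun hQT => by
      obtain ⟨a, ha, haT⟩ := exists_aut_conj (P := Q) (Subgroup.le_normalizer (hQT.ge ht))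
      exact ⟨a, c.autT_le_Y hQ (haT c.T ht), ha⟩⟩)
    (fun Q hQ a ha => ⟨c.lmap_Y hQ ha, fun _ => ⟨a, ha, fun x _ => rfl⟩⟩)
  obtain ⟨y, hy', hyα⟩ := hy rfl
  rwa [← aut_ext hyα]

theorem Ctx.fa_top : c.FA c.T :=
  haveI := c.finT
  (c.fa_Y c.good_T).mono (autInducedBy_le_autGroup le_rfl) c.aut_top_le

/-- All the generated maps between subgroups of the size `n` in normalised form. -/
theorem Ctx.normalised (n : ℕ) (hFA : ∀ R, c.Good R → n < Nat.card R → c.FA R)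
    (hRec : ∀ R, c.Good R → n < Nat.card R → c.sys.IsReceptive R)
    (hf : c.LMap P f) : ∀ X, X ≤ P → c.Cent X → Nat.card X = n → n < Nat.card c.T →
      ∀ (Q Q₂ : Subgroup Ω) (e₁ e₂ h : Ω → Ω), c.Good Q → c.Good Q₂ →
        c.LMap (normalizerIn c.T X) e₁ → c.LMap (normalizerIn c.T (im X f)) e₂ → im X e₁ = Q →
        im (im X f) e₂ = Q₂ → (∀ x ∈ X, h (e₁ x) = e₂ (f x)) → c.M Q Q₂ h := by
  haveI := c.finT
  let K : Subgroup Ω → (Ω → Ω) → Prop := fun P f => c.LMap P f ∧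
    ∀ X, X ≤ P → c.Cent X → Nat.card X = n → n < Nat.card c.T →
      ∀ (Q Q₂ : Subgroup Ω) (e₁ e₂ h : Ω → Ω), c.Good Q → c.Good Q₂ →
        c.LMap (normalizerIn c.T X) e₁ → c.LMap (normalizerIn c.T (im X f)) e₂ → im X e₁ = Q →
        im (im X f) e₂ = Q₂ → (∀ x ∈ X, h (e₁ x) = e₂ (f x)) → c.M Q Q₂ h
  -- restrictions from larger subgroups
  have hbig : ∀ (P : Subgroup Ω) (f : Ω → Ω), c.LMap P f → ∀ X, X < P → c.Cent X → Nat.card X = n →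
      ∀ (Q Q₂ : Subgroup Ω) (e₁ e₂ h : Ω → Ω), c.Good Q → c.Good Q₂ →
        c.LMap (normalizerIn c.T X) e₁ → c.LMap (normalizerIn c.T (im X f)) e₂ → im X e₁ = Q →
        im (im X f) e₂ = Q₂ → (∀ x ∈ X, h (e₁ x) = e₂ (f x)) → c.M Q Q₂ h := by
    intro P f hf X hXP hXc hn Q Q₂ e₁ e₂ h hQ hQ₂ he₁ he₂ hi₁ hi₂ hh
    obtain ⟨W, hW⟩ : ∃ W, W = P ⊓ Subgroup.normalizer (X : Set Ω) := ⟨_, rfl⟩
    have hXW : X < W := hW ▸ lt_inf_normalizer c.pS hXP (hf.2.1.trans c.tS)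
    have hWN : W ≤ normalizerIn c.T X := hW ▸ inf_le_inf_right _ hf.2.1
    have hWP : W ≤ P := hW ▸ inf_le_left
    have hXN : X ≤ normalizerIn c.T X := le_normalizerIn hXc.1
    have he₁W := he₁.restrict hWN
    obtain ⟨k, hk, hke, hek, -⟩ := he₁W.exists_inv
    have hmem : ∀ z ∈ W, f z ∈ normalizerIn c.T (im X f) := fun z hz =>
      ⟨c.lmap_mem hf (hWP hz), (hf.1.mem_normalizer hXP.le (hWP hz) (hWN hz).2).2⟩
    have hh' : c.LMap (im W e₁) (e₂ ∘ f ∘ k) :=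
      (hk.comp (hf.restrict hWP) fun z hz => (hek z hz).2).comp he₂ fun z hz => hmem _ (hek z hz).2
    have hQW : Q < im W e₁ := by
      refine lt_of_le_of_ne (hi₁ ▸ im_mono hXW.le) fun he => ?_
      have h1 := card_lt_of_lt hXW ((hWN.trans inf_le_left).trans c.tS)
      rw [← (he₁.1.restrict hXN).card_im, hi₁, he, he₁W.1.card_im] at h1
      exact lt_irrefl _ h1
    have hval : ∀ x ∈ X, (e₂ ∘ f ∘ k) (e₁ x) = e₂ (f x) := fun x hx => by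
      show e₂ (f (k (e₁ x))) = _
      rw [hke x (hXW.le hx)]
    refine ((c.extend n hFA hRec _ Q Q₂ (im W e₁) _ rfl hQ hQ₂ ?_ hQW ?_ hh' ?_).congr fun y hy => ?_)
    · rw [← hi₁, (he₁.1.restrict hXN).card_im, hn]
    · refine im_le_iff.2 fun w hw => ⟨c.lmap_mem he₁W hw, ?_⟩
      have := (he₁.1.mem_normalizer hXN (hWN hw) (hWN hw).2).2
      rwa [hi₁] at this
    · refine (hh'.1.restrict hQW.le).im_eq (fun y hy => ?_) fun z hz => ?_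
      · obtain ⟨x, hx, rfl⟩ := (he₁.1.restrict hXN).mem_im.1 (hi₁.ge hy)
        rw [hval x hx]
        exact hi₂.le (mem_im_of_mem (mem_im_of_mem hx))
      · obtain ⟨w, hw, rfl⟩ := (he₂.1.restrict (le_normalizerIn (c.lmap_im_le (hf.restrict hXP.le)))).mem_im.1
          (hi₂.ge hz)
        obtain ⟨x, hx, rfl⟩ := (hf.1.restrict hXP.le).mem_im.1 hw
        exact ⟨e₁ x, hi₁.le (mem_im_of_mem hx), hval x hx⟩
    · obtain ⟨x, hx, rfl⟩ := (he₁.1.restrict hXN).mem_im.1 (hi₁.ge hy)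
      rw [hval x hx, hh x hx]
  suffices hK : K P f from hK.2
  obtain ⟨-, -, hgen⟩ := id hf
  refine hgen K ⟨?_, ?_, ?_, ?_⟩ ?_ ?_
  · rintro P f g ⟨hf, h⟩ he
    refine ⟨hf.congr he, fun X hX hXc hn hnT Q Q₂ e₁ e₂ k hQ hQ₂ he₁ he₂ hi₁ hi₂ hk => ?_⟩
    rw [← im_congr fun x hx => he x (hX hx)] at he₂ hi₂
    exact h X hX hXc hn hnT Q Q₂ e₁ e₂ k hQ hQ₂ he₁ he₂ hi₁ hi₂ fun x hx => by rw [hk x hx, he x (hX hx)]
  · rintro P R f - ⟨hf, h⟩ hR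
    exact ⟨hf.restrict hR, fun X hX => h X (hX.trans hR)⟩
  · rintro P R f g - - ⟨hf, h⟩ ⟨hg, h'⟩ hm
    refine ⟨hf.comp hg hm, fun X hX hXc hn hnT Q Q₂ e₁ e₂ k hQ hQ₂ he₁ he₂ hi₁ hi₂ hk => ?_⟩
    have hfX := hf.1.restrict hX
    have hX' : im X f ≤ R := im_le_iff.2 fun x hx => hm x (hX hx)
    have hX'c : c.Cent (im X f) := c.cent_im hXc hfX
    have hn' : Nat.card ↥(im X f) = n := hfX.card_im.trans hn
    obtain ⟨M, e, hMg, he, hei, -⟩ := c.exists_toGood hX'c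
    rw [hfX.im_comp] at he₂ hi₂
    obtain ⟨u, -, hu, -, -⟩ := (he₁.restrict (le_normalizerIn hXc.1)).exists_inv
    obtain ⟨v, -, hv, -, -⟩ := (he.restrict (le_normalizerIn hX'c.1)).exists_inv
    have h1 := h X hX hXc hn hnT Q M e₁ e (fun z => e (f (u z))) hQ hMg he₁ he hi₁ hei
      fun x hx => by rw [hu x hx]
    have h2 := h' _ hX' hX'c hn' hnT M Q₂ e e₂ (fun z => e₂ (g (v z))) hMg hQ₂ he he₂ hei hi₂
      fun x hx => by rw [hv x hx]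
    refine (h1.comp h2 hQ hMg).congr fun z hz => ?_
    obtain ⟨x, hx, rfl⟩ := (he₁.1.restrict (le_normalizerIn hXc.1)).mem_im.1 (hi₁.ge hz)
    show e₂ (g (v (e (f (u (e₁ x)))))) = k (e₁ x)
    rw [hu x hx, hv _ (mem_im_of_mem hx), hk x hx]
    rfl
  · rintro P f g hfm ⟨hf, h⟩ hg
    refine ⟨c.lmap_closed.inv hfm hf hg, fun X hX hXc hn hnT Q Q₂ e₁ e₂ k hQ hQ₂ he₁ he₂ hi₁ hi₂ hk => ?_⟩
    have hgm := (c.lmap_closed.inv hfm hf hg).1.restrict hX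
    obtain ⟨X₀, hX₀⟩ : ∃ X₀, X₀ = im X g := ⟨_, rfl⟩
    rw [← hX₀] at he₂ hi₂
    have hX₀P : X₀ ≤ P := hX₀ ▸ im_le_iff.2 fun y hy => by
      obtain ⟨x, hx, rfl⟩ := hfm.mem_im.1 (hX hy)
      rw [hg x hx]; exact hx
    have hfg : ∀ y ∈ X, f (g y) = y := fun y hy => by
      obtain ⟨x, hx, rfl⟩ := hfm.mem_im.1 (hX hy)
      rw [hg x hx]
    have hX₀i : im X₀ f = X := by
      refine (hfm.restrict hX₀P).im_eq (fun z hz => ?_) fun y hy =>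
        ⟨g y, hX₀ ▸ mem_im_of_mem hy, hfg y hy⟩
      obtain ⟨y, hy, rfl⟩ := hgm.mem_im.1 (hX₀ ▸ hz)
      rw [hfg y hy]; exact hy
    obtain ⟨v, -, hv, -, -⟩ := (he₂.restrict (le_normalizerIn
      (hX₀P.trans hf.2.1))).exists_inv
    have h1 := h X₀ hX₀P (hX₀ ▸ c.cent_im hXc hgm) (by rw [hX₀, hgm.card_im, hn]) hnT Q₂ Q e₂ e₁
      (fun z => e₁ (f (v z))) hQ₂ hQ he₂ (hX₀i.symm ▸ he₁) hi₂ (by rw [hX₀i, hi₁])
      fun x hx => by rw [hv x hx]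
    refine h1.inv hQ₂ hQ fun z hz => ?_
    obtain ⟨x, hx, rfl⟩ := (he₂.1.restrict (le_normalizerIn (hX₀P.trans hf.2.1))).mem_im.1 (hi₂.ge hz)
    show k (e₁ (f (v (e₂ x)))) = e₂ x
    rw [hv x hx, hk _ (hX₀i.le (mem_im_of_mem hx)), hg x (hX₀P hx)]
  · intro P t hP ht
    refine ⟨c.lmap_conjBy hP ht, fun X hX hXc hn hnT Q Q₂ e₁ e₂ k hQ hQ₂ he₁ he₂ hi₁ hi₂ hk => ?_⟩
    exact hbig c.T _ (c.lmap_conjBy le_rfl ht) X
      (lt_of_le_of_ne hXc.1 fun he => by rw [he] at hn; omega) hXc hn Q Q₂ e₁ e₂ k hQ hQ₂ he₁ he₂ hi₁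
      hi₂ hk
  · intro P hPc a ha
    refine ⟨c.lmap_Y hPc ha, fun X hX hXc hn hnT Q Q₂ e₁ e₂ k hQ hQ₂ he₁ he₂ hi₁ hi₂ hk => ?_⟩
    rcases eq_or_lt_of_le hX with rfl | hlt
    swap
    · exact hbig P _ (c.lmap_Y hPc ha) X hlt hXc hn Q Q₂ e₁ e₂ k hQ hQ₂ he₁ he₂ hi₁ hi₂ hk
    rw [im_av] at he₂ hi₂
    have hXN : X ≤ normalizerIn c.T X := le_normalizerIn hXc.1
    obtain ⟨u, -, hu, -, -⟩ := (he₁.restrict hXN).exists_inv
    have hne : X < c.T := lt_of_le_of_ne hXc.1 fun he => by rw [he] at hn; omega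
    have h0 := hbig c.T id (c.lmap_id le_rfl) X hne hXc hn Q Q₂ e₁ e₂ (fun z => e₂ (u z)) hQ hQ₂ he₁
      (by rwa [im_id]) hi₁ (by rwa [im_id]) fun x hx => by rw [hu x hx]; rfl
    have he₂X := he₂.1.restrict hXN
    obtain ⟨ε, hε⟩ := exists_equiv he₂X hi₂
    refine (h0.left hQ.1.1 (c.congr_Y he₂X hi₂ hε ha)).congr fun z hz => ?_
    obtain ⟨x, hx, rfl⟩ := (he₁.1.restrict hXN).mem_im.1 (hi₁.ge hz)
    show av _ (e₂ (u (e₁ x))) = k (e₁ x)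
    rw [hu x hx, av_congr_apply hε a hx, hk x hx]

/-! ### Receptivity from full automisation -/

theorem Ctx.receptive_of_fa (hQ : c.Good Q)
    (hFA : ∀ R, c.Good R → Nat.card Q < Nat.card R → c.FA R)
    (hRec : ∀ R, c.Good R → Nat.card Q < Nat.card R → c.sys.IsReceptive R) : c.sys.IsReceptive Q := by
  haveI := c.finT
  obtain ⟨hQc, α, hα, hfn⟩ := id hQ
  have hQT := hQc.1
  have hQS := hQT.trans c.tS
  refine receptive_iff.2 ⟨hQT, fun R f hf hi => ?_⟩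
  have hfL := c.map_sys.1 hf
  have hRT : R ≤ c.T := hfL.2.1
  have hcard : Nat.card R = Nat.card Q := hi ▸ hfL.1.card_im.symm
  rcases eq_or_lt_of_le hQT with he | hlt
  · have hR : R = c.T := by
      refine Subgroup.eq_of_le_of_card_ge hRT ?_
      rw [hcard, he]
    exact ⟨f, c.map_sys.2 (hfL.restrict (Nf_le.trans (inf_le_left.trans hR.ge))), fun _ _ => rfl⟩
  obtain ⟨k₀, hk₀, hk₀f, -, hk₀i⟩ := hfL.1.exists_inv
  rw [hi] at hk₀ hk₀i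
  have hRc : c.Cent R := hk₀i ▸ c.cent_im hQc hk₀
  obtain ⟨Q', e, hQ', he, hei, heN⟩ := c.exists_toGood hRc
  have hRN : R ≤ normalizerIn c.T R := le_normalizerIn hRT
  obtain ⟨v, -, hv, -, -⟩ := (he.restrict hRN).exists_inv
  obtain ⟨g, hg, hgi, y, hy, hye⟩ := c.normalised _ hFA hRec hfL R le_rfl hRc hcard
    (card_lt_of_lt hlt c.tS) Q' Q e id (fun z => f (v z)) hQ' hQ he
    (by rw [hi]; exact c.lmap_id inf_le_left) hei (by rw [hi, im_id]) fun x hx => by rw [hv x hx]; rfl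
  obtain ⟨b, hbd⟩ : ∃ b, b = g ∘ e := ⟨_, rfl⟩
  have hb : c.LMap (normalizerIn c.T R) b := hbd ▸ he.comp hg heN
  have hQ'N : Q' ≤ normalizerIn c.T Q' := le_normalizerIn hQ'.1.1
  have hbR : im R b = Q := by rw [hbd, (he.1.restrict hRN).im_comp, hei, hgi]
  have hbf : ∀ x ∈ R, f x = av y (b x) := fun x hx => by
    have h1 := hye (e x) (hei.le (mem_im_of_mem hx))
    simp only [hv x hx] at h1
    rw [h1, hbd]
    rfl
  have hbN : ∀ x ∈ normalizerIn c.T R, b x ∈ normalizerIn c.T Q := fun x hx =>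
    ⟨c.lmap_mem hb hx, hbR ▸ (hb.1.mem_normalizer hRN hx hx.2).2⟩
  have hNle : Nf c.T R f ≤ normalizerIn c.T R := Nf_le
  -- the model at the fully normalized conjugate
  obtain ⟨X₀, hX₀⟩ : ∃ X₀, X₀ = im Q (av α) := ⟨_, rfl⟩
  rw [← hX₀] at hfn
  have hαm := map_of_mem_autGroup c.tS hα
  have hαQ := hαm.restrict hQT
  have hX₀c : c.Cent X₀ := hX₀ ▸ c.cent_im hQc hαQ
  obtain ⟨ε, hε⟩ := exists_equiv hαQ hX₀.symm
  obtain ⟨G, hG, ι, W, K⟩ := c.exists_key hfn hX₀c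
  have L := K.model
  haveI := L.finite
  haveI := K.normal
  haveI := L.nQ
  obtain ⟨w, hw, hwy⟩ := K.gen_le _ (c.congr_Y hαQ hX₀.symm hε hy)
  have hwα : ∀ x ∈ Q, av α (av y x) = act ι w (av α x) := fun x hx => by
    rw [← hwy _ (hX₀ ▸ mem_im_of_mem hx), av_congr_apply hε y hx]
  obtain ⟨M₀, hM₀⟩ : ∃ M₀, M₀ = im (Nf c.T R f) (av α ∘ b) := ⟨_, rfl⟩
  have hαb : Map F (Nf c.T R f) (av α ∘ b) :=
    (hb.1.restrict hNle).comp hαm fun x hx => c.lmap_mem hb (hNle hx)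
  have hαN : ∀ x ∈ normalizerIn c.T Q, av α x ∈ normalizerIn c.T X₀ := fun x hx =>
    hX₀ ▸ c.im_norm hα hQT hx
  have hM₀N : M₀ ≤ normalizerIn c.T X₀ :=
    hM₀ ▸ im_le_iff.2 fun x hx => hαN _ (hbN x (hNle hx))
  have hM₀S := hM₀N.trans K.nT_le
  have hX₀S : X₀ ≤ normalizerIn S X₀ := le_normalizerIn hfn.1
  have hRNf : R ≤ Nf c.T R f := le_Nf hf
  have hX₀M : X₀ ≤ M₀ := by
    rw [hM₀, hX₀]
    refine im_le_iff.2 fun y hy => ?_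
    obtain ⟨x, hx, rfl⟩ := (hb.1.restrict hRN).mem_im.1 (hbR.ge hy)
    exact mem_im_of_mem (f := av α ∘ b) (hRNf hx)
  obtain ⟨C, hCd⟩ : ∃ C, C = W ⊓ Subgroup.centralizer (imG ι X₀ : Set G) := ⟨_, rfl⟩
  obtain ⟨U, hUd⟩ : ∃ U, U = imG ι (normalizerIn c.T X₀) := ⟨_, rfl⟩
  haveI : C.Normal := hCd ▸ Subgroup.normal_inf_normal _ _
  have hsyl : SylIn p U (U ⊔ C) := (hUd ▸ K.syl).mono le_sup_left
    (sup_le (hUd ▸ K.syl.le) (hCd ▸ inf_le_left))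
  have hmove : cj (imG ι M₀) w ≤ U ⊔ C := by
    rintro _ ⟨z, hz, rfl⟩
    obtain ⟨m, hm, rfl⟩ := (mem_imG hM₀S).1 hz
    obtain ⟨s, hs, rfl⟩ := hαb.mem_im.1 (hM₀ ▸ hm)
    obtain ⟨-, hsn, h', hh, hsh⟩ := mem_Nf.1 hs
    obtain ⟨h₀, hh₀⟩ : ∃ h₀, h₀ = av α h' := ⟨_, rfl⟩
    have hhn : h' ∈ normalizerIn c.T Q := by
      refine ⟨hh, mem_normalizer_of_conj_mem hQS fun z hz => ?_⟩
      obtain ⟨x, hx, rfl⟩ := hfL.1.mem_im.1 (hi.ge hz)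
      rw [← hsh x hx]
      exact hi.le (mem_im_of_mem (conj_mem_of_normalizer hsn hx))
    have hh₀N : h₀ ∈ normalizerIn c.T X₀ := hh₀ ▸ hαN _ hhn
    show w * ue ι (av α (b s)) * w⁻¹ ∈ U ⊔ C
    obtain ⟨d, hd⟩ : ∃ d, d = (ue ι h₀)⁻¹ * (w * ue ι (av α (b s)) * w⁻¹) := ⟨_, rfl⟩
    rw [show w * ue ι (av α (b s)) * w⁻¹ = ue ι h₀ * d by rw [hd, mul_inv_cancel_left]]
    have hsW : ue ι (av α (b s)) ∈ W := K.syl.le (ue_mem_up K.nT_le (hαN _ (hbN _ (hNle hs))))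
    have hhW : ue ι h₀ ∈ W := K.syl.le (ue_mem_up K.nT_le hh₀N)
    refine Subgroup.mul_mem_sup (hUd ▸ ue_mem_up K.nT_le hh₀N) (hCd ▸ ⟨hd ▸ W.mul_mem (W.inv_mem hhW)
      (K.normal.conj_mem _ hsW w), Subgroup.mem_centralizer_iff.2 fun z hz => ?_⟩)
    -- `d` centralizes the image of `X₀`
    obtain ⟨z₁, hz₁, rfl⟩ : ∃ z₁ ∈ imG ι X₀, w * z₁ * w⁻¹ = z :=
      ⟨w⁻¹ * z * w, by simpa using L.nQ.conj_mem _ hz w⁻¹, by group⟩
    obtain ⟨x₀, hx₀, rfl⟩ := (mem_imG hX₀S).1 hz₁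
    obtain ⟨x₁, hx₁, rfl⟩ := hαQ.mem_im.1 (hX₀ ▸ hx₀)
    obtain ⟨x, hx, rfl⟩ := (hb.1.restrict hRN).mem_im.1 (hbR.ge hx₁)
    have hsx : s * x * s⁻¹ ∈ R := conj_mem_of_normalizer hsn hx
    have hw' : ∀ r ∈ R, ue ι (av α (f r)) = w * ue ι (av α (b r)) * w⁻¹ := fun r hr => by
      rw [hbf r hr, hwα _ (hbR.le (mem_im_of_mem hr)), ue_act (L.hat_range hfn.1 w
        (Subgroup.mem_sup_left (hX₀ ▸ mem_im_of_mem (hbR.le (mem_im_of_mem hr)))))]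
    have e1 : ue ι (av α (b (s * x * s⁻¹))) =
        ue ι (av α (b s)) * ue ι (av α (b x)) * (ue ι (av α (b s)))⁻¹ := by
      rw [hb.1.map_conj (hNle hs) (hRN hx), hαm.map_conj (c.lmap_mem hb (hNle hs)) (c.lmap_mem hb (hRN hx)),
        ue_conj (K.nT_le (hαN _ (hbN _ (hNle hs)))) (hX₀S hx₀)]
    have e2 : ue ι (av α (f (s * x * s⁻¹))) = ue ι h₀ * ue ι (av α (f x)) * (ue ι h₀)⁻¹ := by
      rw [hsh x hx, hαm.map_conj hh (c.lmap_mem hfL hx), ← hh₀,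
        ue_conj (K.nT_le hh₀N) (hX₀S (hX₀ ▸ mem_im_of_mem (hi.le (mem_im_of_mem hx))))]
    rw [hw' _ hsx, hw' _ hx, e1] at e2
    rw [hd]
    obtain ⟨A, hA⟩ : ∃ A, A = ue ι (av α (b s)) := ⟨_, rfl⟩
    obtain ⟨B, hB⟩ : ∃ B, B = ue ι (av α (b x)) := ⟨_, rfl⟩
    rw [← hA, ← hB] at e2 ⊢
    calc w * B * w⁻¹ * ((ue ι h₀)⁻¹ * (w * A * w⁻¹))
        = (ue ι h₀)⁻¹ * (ue ι h₀ * (w * B * w⁻¹) * (ue ι h₀)⁻¹) * (w * A * w⁻¹) := by group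
      _ = (ue ι h₀)⁻¹ * (w * (A * B * A⁻¹) * w⁻¹) * (w * A * w⁻¹) := by rw [e2]
      _ = _ := by group
  obtain ⟨x, hx, hxle⟩ := hsyl.conj_le (isPGroup_cj ((hUd ▸ K.syl.isPGroup).to_le
    (hUd ▸ Subgroup.map_mono (Subgroup.comap_mono hM₀N))) w) hmove
  obtain ⟨u, hu, z, hz, rfl⟩ := Subgroup.mem_sup_of_normal_right.1 hx
  have hzle : cj (imG ι M₀) (z * w) ≤ U := by
    rw [← cj_cj]
    have h1 := cj_mono hxle u⁻¹
    rwa [cj_eq_self (Subgroup.le_normalizer (inv_mem hu)), cj_cj _ (u * z), inv_mul_cancel_left] at h1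
  rw [hCd] at hz
  have hk := c.transport (inv_mem hα)
    (K.lmap_act hfn hX₀c hX₀M hM₀N (W.mul_mem hz.1 hw) (hUd ▸ hzle))
  obtain ⟨k, hk, hke⟩ := hk
  have hback : ∀ x ∈ Nf c.T R f, b x ∈ im M₀ (av α⁻¹) := fun x hx => by
    rw [← av_inv_av α (c.lmap_mem hb (hNle hx))]
    exact mem_im_of_mem (hM₀ ▸ mem_im_of_mem (f := av α ∘ b) hx)
  refine ⟨k ∘ b, c.map_sys.2 ((hb.restrict hNle).comp hk hback), fun x hx => ?_⟩
  show k (b x) = f x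
  have hxQ : b x ∈ Q := hbR.le (mem_im_of_mem hx)
  have hxX : av α (b x) ∈ X₀ := hX₀ ▸ mem_im_of_mem hxQ
  have h1 := hke _ (hX₀M hxX)
  rw [av_inv_av α (hQT hxQ)] at h1
  have hwr := L.hat_range hfn.1 w (Subgroup.mem_sup_left hxX)
  have hfix : act ι (z * w) (av α (b x)) = act ι w (av α (b x)) := by
    refine act_eq L.inj act_mem ?_
    rw [ue_act hwr]
    have h2 := Subgroup.mem_centralizer_iff.1 hz.2 _ (L.nQ.conj_mem _ (ue_mem_up hX₀S hxX) w)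
    calc w * ue ι (av α (b x)) * w⁻¹ = z * (w * ue ι (av α (b x)) * w⁻¹) * z⁻¹ := by
          rw [← h2, mul_inv_cancel_right]
      _ = _ := by group
  rw [h1, hfix, ← hwα _ hxQ, av_inv_av α (hQT (av_mem y hxQ)), hbf x hx]

/-- `Aut_T(Q)` is Sylow in the generated automizer at every good subgroup, and these are receptive. -/
theorem Ctx.level_all : ∀ Q : Subgroup Ω, c.Good Q → c.FA Q ∧ c.sys.IsReceptive Q := by
  haveI := c.finT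
  suffices ∀ m, ∀ Q : Subgroup Ω, Nat.card c.T - Nat.card Q = m → c.Good Q → c.FA Q ∧ c.sys.IsReceptive Q from
    fun Q hQ => this _ Q rfl hQ
  intro m
  induction m using Nat.strong_induction_on with
  | _ m ih =>
  intro Q hm hQ
  have hQT := hQ.1.1
  have hFA : ∀ R, c.Good R → Nat.card Q < Nat.card R → c.FA R := fun R hR hlt' =>
    (ih _ (by have := Subgroup.card_le_of_le hR.1.1; omega) R rfl hR).1
  have hRec : ∀ R, c.Good R → Nat.card Q < Nat.card R → c.sys.IsReceptive R := fun R hR hlt' =>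
    (ih _ (by have := Subgroup.card_le_of_le hR.1.1; omega) R rfl hR).2
  refine ⟨?_, c.receptive_of_fa hQ hFA hRec⟩
  rcases eq_or_lt_of_le hQT with he | hlt
  · rw [he]; exact c.fa_top
  have hcard := card_lt_of_lt hlt c.tS
  haveI := mulAut_finite_of_le hQT
  haveI := finite_of_le (hQT.trans c.tS)
  have hU := c.fa_Y hQ
  have hYA : c.Y Q ≤ c.sys.autGroup Q := fun a ha => (c.mem_autSys hQT).2 (c.lmap_Y hQ.1 ha)
  -- every automorphism is a generator times a restriction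
  obtain ⟨N, hN⟩ : ∃ N, N = normalizerIn c.T Q := ⟨_, rfl⟩
  have hQN : Q ≤ N := hN ▸ le_normalizerIn hQT
  have hNT : N ≤ c.T := hN ▸ inf_le_left
  haveI := finite_of_le (hNT.trans c.tS)
  haveI := mulAut_finite_of_le hNT
  have hdec : ∀ α ∈ c.sys.autGroup Q, ∃ y ∈ c.Y Q, ∃ b ∈ c.sys.autGroup N,
      (∀ x ∈ Q, av b x ∈ Q) ∧ ∀ x ∈ Q, av α x = av y (av b x) := by
    intro α hα
    obtain ⟨g, hg, hgi, y, hy, hye⟩ := c.normalised _ hFA hRec ((c.mem_autSys hQT).1 hα) Q le_rfl hQ.1 rfl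
      hcard Q Q id id (av α) hQ hQ (c.lmap_id inf_le_left) (c.lmap_id inf_le_left) im_id
      (by rw [im_av, im_id]) fun _ _ => rfl
    have hgN : im N g = N := by rw [hN]; exact c.norm_im hQ hQ hg hgi
    rw [← hN] at hg
    obtain ⟨b, hb, hbg⟩ := exists_aut (c.map_sys.2 hg) hgN
    exact ⟨y, hy, b, hb, fun x hx => by rw [hbg x (hQN hx)]; exact hgi.le (mem_im_of_mem hx),
      fun x hx => by rw [hye x hx, hbg x (hQN hx)]⟩
  have hNc : c.Cent N := c.cent_mono hQ.1 hQN hNT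
  have hQN' : Nat.card Q < Nat.card N :=
    card_lt_of_lt (hN ▸ lt_normalizerIn c.pT hlt) (hNT.trans c.tS)
  -- every `p`-element is a generator
  have hpel : ∀ α ∈ c.sys.autGroup Q, (∃ k, orderOf α = p ^ k) → α ∈ c.Y Q := by
    intro α hα ⟨k, hk⟩
    obtain ⟨y, hy, b, hb, hbQ, hαe⟩ := hdec α hα
    have hm : Map c.sys Q (av b) := (map_of_mem_autGroup hNT hb).restrict hQN
    obtain ⟨r, hr, hrb⟩ := exists_aut hm
      (Subgroup.eq_of_le_of_card_ge (im_le_iff.2 hbQ) hm.card_im.ge)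
    have hαyr : α = y * r := aut_ext fun x hx => by rw [hαe x hx, av_mul _ _ hx, hrb x hx]
    obtain ⟨j, hj, hjk⟩ := CLift.exists_pow_pElement (p := p) b
    have hpow : ∀ x ∈ Q, av (b ^ j) x = av (r ^ j) x := av_pow hQN (fun x hx => (hrb x hx).symm) j
    obtain ⟨a, ha, hab⟩ := c.pElement_restrict hNc (fun R hR hR' => hFA R hR (hR' ▸ hQN'))
      (pow_mem hb j) hjk hQN fun x hx => by rw [hpow x hx]; exact av_mem _ hx
    have hrj : r ^ j ∈ c.Y Q :=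
      (aut_ext fun x hx => (hab x hx).trans (hpow x hx) : a = r ^ j) ▸ ha
    have hn : ∀ g ∈ c.sys.autGroup Q, ∀ z ∈ c.Y Q, g * z * g⁻¹ ∈ c.Y Q := fun g hg z hz =>
      c.Y_conj hQT (autGroup_le_of_sub c.sys_sub hQT hg) hz
    have hαj : α ^ j * (r ^ j)⁻¹ ∈ c.Y Q := by
      clear hpow hab hrj hj hjk
      induction j with
      | zero => simp
      | succ i hi =>
        rw [pow_succ, pow_succ, mul_inv_rev,
          show α ^ i * α * (r⁻¹ * (r ^ i)⁻¹) = (α ^ i * (r ^ i)⁻¹) * (r ^ i * (α * r⁻¹) * (r ^ i)⁻¹) by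
            group]
        refine mul_mem hi (hn _ (pow_mem hr i) _ ?_)
        rw [hαyr, mul_inv_cancel_right]
        exact hy
    have hαjY : α ^ j ∈ c.Y Q := by simpa using mul_mem hαj hrj
    obtain ⟨i, hi⟩ := exists_pow_eq_self_of_coprime (x := α) (n := j)
      (hk ▸ hj.pow_right k : j.Coprime (orderOf α))
    exact hi ▸ pow_mem hαjY i
  obtain ⟨U₁, hU₁, hle⟩ := exists_sylIn_ge hU.isPGroup (hU.le.trans hYA)
  have hU₁Y : U₁ ≤ c.Y Q := fun a ha => by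
    obtain ⟨k, hk⟩ := IsPGroup.iff_orderOf.1 hU₁.isPGroup ⟨a, ha⟩
    rw [Subgroup.orderOf_mk] at hk
    exact hpel a (hU₁.le ha) ⟨k, hk⟩
  show SylIn p _ _
  rwa [← hU.eq_of_le hU₁.isPGroup hle hU₁Y]

end Cfsg.Agent.Local.FS.Meet
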